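import Cfsg.Agent.Lib.ThreeAmalgam.Interface

/-!
From the pieces to the recognition.
-/

set_option autoImplicit false

namespace CfsgLib.ThreeAmalgam

open Subgroup

universe u

/-- The relators of the presented group with the extra relation `k`. -/
def relSet (k : List (Fin 7)) : Set (FreeGroup (Fin 7)) :=
  {r | ∃ w ∈ k :: base, r = val FreeGroup.of w}

/-- The presented group. -/
abbrev Pres (k : List (Fin 7)) : Type := PresentedGroup (relSet k)

theorem map_val {H K : Type*} [Group H] [Group K] (f : H →* K) (L : Fin 7 → H) (w : List (Fin 7)) :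
    f (val L w) = val (f ∘ L) w := by
  simp [val, map_list_prod, List.map_map]

theorem lift_rel {H : Type*} [Group H] {k : List (Fin 7)} (L : Fin 7 → H)
    (hb : ∀ w ∈ base, val L w = 1) (hk : val L k = 1) :
    ∀ r ∈ relSet k, FreeGroup.lift L r = 1 := by
  rintro r ⟨w, hw, rfl⟩
  rw [map_val]
  have : (FreeGroup.lift L : FreeGroup (Fin 7) → H) ∘ FreeGroup.of = L := by ext x; simp
  rw [this]
  rcases List.mem_cons.1 hw with rfl | hw
  exacts [hk, hb w hw]

theorem of_rels (k : List (Fin 7)) : ∀ w ∈ k :: base,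
    val (PresentedGroup.of (rels := relSet k)) w = 1 := fun w hw => by
  have h : PresentedGroup.mk (relSet k) (val FreeGroup.of w) = 1 :=
    PresentedGroup.one_of_mem ⟨w, hw, rfl⟩
  rwa [map_val] at h

/-- A nontrivial group with the letters and the relation is the target. -/
theorem iso_target {G : Type u} [Group G] (D : Data G) {k : List (Fin 7)} {n : ℕ}
    (hcard : ∀ L : Fin 7 → Pres k, (∀ w ∈ base, val L w = 1) → closure (Set.range L) = ⊤ →
      val L k = 1 → Nat.card (Pres k) ≠ 0 ∧ Nat.card (Pres k) ≤ n)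
    (hk : val D.L k = 1) {T : Type} [Group T] [IsSimpleGroup T] (L : Fin 7 → T)
    (hb : ∀ w ∈ base, val L w = 1) (hkT : val L k = 1) (hgen : closure (Set.range L) = ⊤)
    (hn : Nat.card T = n) : Nonempty (G ≃* T) := by
  obtain ⟨h0, hle⟩ := hcard _ (fun w hw => of_rels k w (List.mem_cons_of_mem _ hw))
    (PresentedGroup.closure_range_of _) (of_rels k k List.mem_cons_self)
  haveI : Finite (Pres k) := Nat.finite_of_card_ne_zero h0
  set θ : Pres k →* T := PresentedGroup.toGroup (lift_rel L hb hkT)
  have hθ : Function.Surjective θ := by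
    rw [← MonoidHom.range_eq_top, eq_top_iff, ← hgen, closure_le]
    rintro _ ⟨i, rfl⟩
    exact ⟨_, PresentedGroup.toGroup.of (lift_rel L hb hkT)⟩
  have hbij : Function.Bijective θ :=
    hθ.bijective_of_nat_card_le (by rw [hn]; exact hle)
  set e : Pres k ≃* T := MulEquiv.ofBijective θ hbij
  set π : Pres k →* G := PresentedGroup.toGroup (lift_rel D.L D.base_rels hk)
  have hπ : Function.Surjective π := by
    rw [← MonoidHom.range_eq_top, eq_top_iff, ← D.gen, closure_le]
    rintro _ ⟨i, rfl⟩
    exact ⟨_, PresentedGroup.toGroup.of (lift_rel D.L D.base_rels hk)⟩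
  haveI : IsSimpleGroup (Pres k) := e.isSimpleGroup
  have hinj : Function.Injective π := by
    rw [← MonoidHom.ker_eq_bot_iff]
    refine (IsSimpleGroup.eq_bot_or_eq_top_of_normal _ π.normal_ker).resolve_right fun h => ?_
    obtain ⟨x, hx⟩ := hπ (D.L 0)
    exact D.ne_one.1 (by rw [← hx]; exact (h ▸ Subgroup.mem_top x : x ∈ π.ker))
  exact ⟨(MulEquiv.ofBijective π ⟨hinj, hπ⟩).symm.trans e⟩

/-- The recognition, from the pieces. -/
theorem iso_of_data (hR : StmtRelation.{u}) (hB : StmtBound.{u}) (hB0 : StmtBound.{0})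
    (h12 : StmtTwelve) (h13 : StmtThirteen) {G : Type u} [Group G] [Finite G] (D : Data G) :
    Cfsg.Spor.IsoM12 G ∨
      Nonempty (G ≃* Matrix.ProjectiveSpecialLinearGroup (Fin 3) (ZMod 3)) := by
  rcases hR G D with h | h | h | h
  · obtain ⟨L, hb, hk, hgen, hn, hs⟩ := h12
    haveI := hs
    exact Or.inl (iso_target D (fun L hL hg => (hB0 _ L hL hg).1) h L hb hk hgen hn)
  · obtain ⟨L, hb, hk, hgen, hn, hs⟩ := h13
    haveI := hs
    exact Or.inr (iso_target D (fun L hL hg => (hB0 _ L hL hg).2.1) h L hb hk hgen hn)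
  · exact absurd ((hB G D.L D.base_rels D.gen).2.2.1 h) D.proper
  · exact absurd ((hB G D.L D.base_rels D.gen).2.2.2 h) D.proper

end CfsgLib.ThreeAmalgam
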