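import Mathlib

/-!
The amalgam of two affine groups of the plane of three elements over a Borel subgroup: letters,
relations and interfaces for the recognition of `M₁₂` and `PSL(3, 3)`.

Seven involutory letters: `0 = a` (central in the complement of `A`), `1 = b` (the same for `B`),
`2 = a e`, `3 = a f`, `4 = b u`, `5 = w b`, `6 = x a`, with `e, f` spanning the normal subgroup of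
order nine of `A`, `e, u` that of `B`, and `w`, `x` rotations of order four in `A`, `B`.
A point `(i, j)` of the plane is numbered `3 i + j`; basis `e, f` for `A` and `e, u` for `B`.
-/

set_option autoImplicit false

namespace CfsgLib.ThreeAmalgam

universe u

/-- The letters of `A` on the plane spanned by `e, f`. -/
def letA : Fin 7 → List (Fin 9)
  | 0 => [0, 2, 1, 6, 8, 7, 3, 5, 4]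
  | 1 => [0, 1, 2, 6, 7, 8, 3, 4, 5]
  | 2 => [6, 8, 7, 3, 5, 4, 0, 2, 1]
  | 3 => [2, 1, 0, 8, 7, 6, 5, 4, 3]
  | 4 => [0, 7, 5, 6, 4, 2, 3, 1, 8]
  | 5 => [0, 6, 3, 2, 8, 5, 1, 7, 4]
  | 6 => [0, 1, 2, 3, 4, 5, 6, 7, 8]

/-- The letters of `B` on the plane spanned by `e, u`. -/
def letB : Fin 7 → List (Fin 9)
  | 0 => [0, 1, 2, 6, 7, 8, 3, 4, 5]
  | 1 => [0, 2, 1, 6, 8, 7, 3, 5, 4]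
  | 2 => [6, 7, 8, 3, 4, 5, 0, 1, 2]
  | 3 => [0, 4, 8, 6, 1, 5, 3, 7, 2]
  | 4 => [2, 1, 0, 8, 7, 6, 5, 4, 3]
  | 5 => [0, 1, 2, 3, 4, 5, 6, 7, 8]
  | 6 => [0, 6, 3, 2, 8, 5, 1, 7, 4]

/-- The permutation of the plane given by a word. -/
def act (l : Fin 7 → List (Fin 9)) (w : List (Fin 7)) (i : Fin 9) : Fin 9 :=
  w.foldr (fun k j => (l k).getD j.1 0) i

/-- A word in the letters of `A` which is trivial there. -/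
def IsRelA (w : List (Fin 7)) : Prop := (∀ k ∈ w, k ≠ 6) ∧ ∀ i, act letA w i = i

/-- A word in the letters of `B` which is trivial there. -/
def IsRelB (w : List (Fin 7)) : Prop := (∀ k ∈ w, k ≠ 5) ∧ ∀ i, act letB w i = i

/-- Relations of the amalgam used in the enumerations. -/
def base : List (List (Fin 7)) := [
  [0, 2, 0, 2, 0, 2],
  [0, 3, 0, 3, 0, 3],
  [1, 4, 1, 4, 1, 4],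
  [5, 1, 5, 1, 5, 1, 5, 1],
  [2, 0, 3, 2, 0, 3],
  [0, 2, 1, 4, 2, 0, 4, 1],
  [0, 2, 1, 2, 0, 2, 0, 1],
  [5, 1, 2, 0, 1, 5, 3, 0, 3, 0],
  [3, 0, 2, 3, 0, 2],
  [3, 1, 4, 3, 0, 4, 1, 2, 0, 2],
  [0, 3, 1, 3, 0, 1],
  [3, 5, 1, 3, 0, 1, 5, 3, 0, 2],
  [1, 4, 0, 2, 4, 1, 2, 0],
  [1, 4, 0, 3, 4, 1, 3, 0, 2, 0],
  [1, 4, 0, 4, 1, 0],
  [2, 0, 2, 0, 2, 0],
  [3, 0, 3, 0, 3, 0],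
  [0, 1, 4, 0, 4, 1],
  [0, 1, 0, 1],
  [0, 5, 1, 0, 1, 5],
  [1, 0, 2, 1, 2, 0, 2, 0],
  [1, 0, 3, 1, 3, 0],
  [4, 1, 4, 1, 4, 1],
  [1, 0, 1, 0],
  [1, 5, 1, 5, 0],
  [5, 1, 0, 2, 1, 5, 3, 0],
  [5, 1, 0, 3, 1, 5, 2, 0, 2, 0],
  [5, 4, 1, 5, 1, 5, 4, 5, 0],
  [5, 1, 0, 1, 5, 0],
  [5, 1, 5, 1, 0],
  [5, 4, 5, 4, 5, 4, 5, 4, 5, 4, 5, 4],
  [5, 1, 0, 3, 5, 1, 0, 3, 5, 1, 0, 3, 5, 1, 0, 3],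
  [5, 1, 5, 1, 5, 4, 5, 1, 5, 1, 5, 4, 5, 1, 5, 1, 5, 4],
  [6, 0, 6, 0, 6, 0, 6, 0],
  [6, 0, 2, 6, 4, 1, 4, 1],
  [1, 4, 6, 0, 4, 1, 0, 6, 4, 1, 2, 0],
  [0, 6, 0, 6, 1],
  [1, 6, 0, 1, 0, 6],
  [6, 2, 0, 6, 4, 1],
  [6, 0, 1, 4, 0, 6, 2, 0, 2, 0],
  [6, 3, 0, 6, 0, 6, 3, 6, 1],
  [6, 0, 6, 1, 0],
  [6, 0, 1, 0, 6, 1],
  [6, 0, 1, 4, 6, 0, 1, 4, 6, 0, 1, 4, 6, 0, 1, 4],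
  [6, 3, 6, 3, 6, 3],
  [6, 0, 6, 0, 6, 0, 1, 4, 6, 0, 6, 0, 6, 0, 1, 4, 6, 0, 6, 0, 6, 0, 1, 4, 6, 0, 6, 0, 6, 0, 1, 4],
  [0, 5, 1, 5, 1],
  [0, 2, 1, 0, 2, 1],
  [0, 2, 5, 1, 0, 3, 1, 5],
  [0, 1, 5, 1, 5],
  [1, 0, 2, 0, 2, 1, 2, 0],
  [1, 5, 1, 0, 5],
  [0, 2, 0, 2, 1, 2, 0, 1],
  [2, 0, 2, 0, 3, 0, 2, 3],
  [0, 2, 0, 2, 1, 4, 0, 2, 4, 1],
  [0, 2, 0, 2, 5, 1, 3, 0, 1, 5],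
  [0, 2, 0, 3, 1, 4, 3, 0, 4, 1],
  [0, 3, 0, 3, 1, 0, 3, 1],
  [0, 3, 0, 3, 5, 1, 0, 2, 1, 5],
  [0, 3, 1, 4, 0, 2, 3, 0, 4, 1],
  [1, 4, 1, 4, 0, 1, 4, 0],
  [5, 0, 1, 5, 1],
  [5, 1, 0, 3, 0, 3, 1, 5, 2, 0],
  [5, 1, 0, 3, 5, 1, 2],
  [1, 0, 2, 1, 0, 2],
  [0, 4, 0, 4],
  [2, 1, 0, 2, 0, 1],
  [2, 1, 4, 2, 4, 1],
  [2, 5, 1, 0, 3, 0, 1, 5],
  [2, 5, 1, 5, 1, 2, 0, 2, 0],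
  [3, 5, 1, 5, 1, 3, 0, 3, 0],
  [5, 1, 0, 3, 1, 5, 0, 2],
  [0, 5, 4, 0, 4, 5],
  [1, 0, 2, 0, 1, 2],
  [1, 0, 2, 0, 3, 2, 0, 1, 3, 0],
  [4, 0, 4, 0],
  [1, 5, 1, 0, 2, 1, 5, 1, 3, 0],
  [1, 5, 1, 0, 3, 1, 5, 1, 2, 0],
  [0, 2, 3, 0, 2, 3],
  [0, 2, 4, 0, 2, 4],
  [2, 0, 2, 1, 4, 0, 3, 4, 1, 3],
  [2, 0, 3, 1, 0, 2, 1, 3],
  [2, 0, 3, 5, 1, 0, 3, 1, 5, 3],
  [0, 2, 1, 4, 1, 0, 2, 1, 4, 1],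
  [2, 1, 4, 0, 3, 0, 2, 4, 1, 3],
  [0, 2, 1, 4, 5, 1, 0, 3, 1, 5, 4, 1],
  [0, 2, 5, 0, 3, 5],
  [3, 0, 1, 0, 3, 1],
  [0, 3, 2, 0, 3, 2],
  [3, 0, 5, 1, 0, 2, 1, 5],
  [3, 0, 3, 0, 2, 3, 0, 3, 0, 2],
  [3, 0, 3, 1, 4, 0, 3, 4, 1, 2],
  [0, 3, 0, 3, 5, 1, 5, 1, 3],
  [0, 3, 5, 0, 2, 5],
  [4, 1, 0, 2, 1, 4, 2, 0],
  [1, 4, 0, 3, 0, 2, 3, 0, 4, 1, 2, 0],
  [1, 4, 0, 3, 1, 4, 1, 4, 3, 0, 2, 0],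
  [1, 4, 1, 4, 0, 2, 4, 1, 4, 1, 2, 0],
  [5, 1, 0, 3, 0, 1, 5, 2],
  [5, 1, 0, 3, 1, 5, 1, 2, 0, 1],
  [5, 1, 0, 3, 0, 2, 3, 0, 1, 5, 3, 0],
  [5, 4, 0, 4, 5, 0],
  [5, 4, 0, 2, 4, 5, 3, 0],
  [0, 4, 1, 0, 4, 1, 4, 1],
  [0, 4, 1, 4, 1, 0, 4, 1],
  [2, 1, 5, 3, 0, 1, 5],
  [2, 0, 3, 0, 2, 3, 2, 0],
  [2, 0, 3, 0, 3, 2, 3, 0],
  [2, 0, 3, 1, 4, 3, 4, 1],
  [2, 5, 1, 5, 2, 0, 1],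
  [3, 1, 0, 1, 3, 0, 3, 0],
  [3, 1, 0, 3, 1, 0, 3, 0],
  [3, 1, 5, 1, 2, 0, 5],
  [3, 1, 4, 0, 4, 1, 3, 0, 3, 0],
  [3, 1, 4, 0, 2, 3, 4, 1],
  [3, 5, 1, 0, 1, 5, 3, 0, 3, 0],
  [3, 5, 1, 0, 2, 1, 5, 0, 3, 0],
  [0, 5, 4, 5, 1, 5, 1, 4, 5],
  [1, 0, 2, 1, 4, 0, 2, 4, 2, 0],
  [0, 2, 1, 4, 1, 4, 2, 0, 1, 4],
  [1, 0, 2, 5, 1, 0, 1, 3, 0, 1, 5],
  [1, 0, 2, 5, 1, 5, 2],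
  [4, 0, 3, 1, 3, 0, 4, 1, 4, 1],
  [4, 5, 1, 5, 1, 4, 0],
  [1, 5, 4, 0, 4, 1, 5],
  [0, 2, 0, 1, 0, 2, 1, 2],
  [0, 2, 0, 5, 1, 0, 3, 1, 5, 2],
  [2, 4, 0, 3, 4, 3],
  [0, 2, 1, 5, 1, 0, 3, 1, 5, 2, 0, 1],
  [2, 0, 2, 0, 3, 1, 2, 0, 1, 3],
  [2, 0, 2, 0, 3, 0, 3, 0, 2, 3, 0, 3],
  [2, 0, 2, 0, 3, 5, 1, 3, 0, 1, 5, 3],
  [0, 2, 0, 2, 1, 4, 1, 2, 0, 1, 4, 1],
  [0, 2, 0, 2, 1, 4, 1, 4, 0, 2, 4, 1, 4, 1],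
  [0, 2, 0, 2, 1, 4, 5, 1, 3, 0, 1, 5, 4, 1],
  [0, 2, 0, 3, 0, 1, 4, 0, 3, 0, 4, 1],
  [2, 0, 3, 0, 3, 1, 4, 3, 0, 4, 1, 3],
  [0, 2, 1, 4, 3, 4, 1, 3],
  [2, 1, 4, 0, 3, 0, 3, 4, 1, 3, 0, 3],
  [0, 2, 1, 4, 0, 3, 1, 4, 3, 0, 4, 1, 4, 1],
  [2, 1, 4, 1, 4, 0, 3, 4, 1, 4, 1, 3],
  [2, 5, 4, 0, 3, 4, 5, 3],
  [3, 2, 0, 3, 0, 2, 0, 2],
  [3, 2, 0, 2, 0, 3, 0, 2],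
  [3, 1, 0, 2, 1, 3, 0, 2, 0, 2],
  [3, 1, 0, 2, 0, 2, 1, 3, 0, 2],
  [0, 3, 1, 0, 2, 1, 4, 3, 0, 4],
  [0, 3, 4, 0, 2, 3, 0, 4],
  [0, 3, 0, 3, 1, 0, 1, 3],
  [0, 3, 0, 3, 1, 0, 2, 0, 3, 2, 0, 1],
  [0, 3, 0, 3, 1, 5, 1, 0, 2, 1, 5, 1],
  [0, 3, 0, 3, 1, 4, 0, 4, 1, 3],
  [0, 3, 0, 3, 5, 1, 0, 1, 5, 3],
  [0, 3, 0, 3, 5, 2, 0, 5],
  [0, 3, 0, 3, 5, 1, 0, 3, 0, 2, 3, 0, 1, 5],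
  [0, 3, 0, 3, 5, 4, 0, 2, 4, 5],
  [0, 3, 1, 4, 3, 2, 4, 1],
  [1, 6, 0, 6, 0],
  [6, 0, 6, 0, 1],
  [0, 2, 6, 0, 1, 4, 0, 6],
  [0, 1, 6, 0, 6],
  [0, 6, 0, 1, 6],
  [0, 2, 0, 2, 6, 0, 4, 1, 0, 6],
  [1, 4, 1, 4, 6, 2, 0, 6],
  [6, 1, 0, 6, 0],
  [6, 0, 1, 4, 1, 4, 0, 6, 2, 0],
  [6, 0, 1, 4, 6, 0, 2, 0, 1],
  [0, 6, 2, 0, 6, 0, 4, 1],
  [6, 0, 1, 4, 0, 6, 0, 2],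
  [1, 0, 2, 6, 0, 1, 4, 1, 0, 6],
  [1, 0, 2, 6, 0, 6, 0, 2, 0, 2, 0],
  [4, 6, 0, 6, 0, 4, 1, 4, 1],
  [1, 6, 3, 1, 3, 6],
  [1, 6, 0, 1, 4, 0, 6, 1, 2, 0],
  [2, 0, 3, 6, 0, 1, 4, 0, 6, 3],
  [0, 2, 1, 4, 6, 0, 1, 4, 0, 6, 4, 1],
  [0, 2, 6, 1, 4, 6],
  [4, 1, 6, 2, 0, 6],
  [1, 4, 1, 4, 6, 0, 6, 0, 4],
  [1, 4, 6, 0, 2, 6],
  [6, 3, 1, 3, 6, 1],
  [6, 3, 0, 2, 3, 6, 4, 1],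
  [6, 0, 1, 4, 1, 0, 6, 2, 0, 1],
  [6, 0, 1, 4, 0, 2, 4, 1, 0, 6, 4, 1],
  [0, 4, 6, 0, 2, 0, 6],
  [2, 1, 6, 4, 1, 0, 6],
  [2, 6, 0, 6, 2, 0, 1],
  [2, 6, 0, 1, 0, 4, 1, 0, 6],
  [0, 6, 3, 1, 3, 0, 6],
  [1, 0, 2, 6, 0, 6, 2],
  [4, 6, 0, 1, 0, 6, 4, 1, 4, 1],
  [4, 6, 2, 0, 6, 1, 4, 1],
  [1, 6, 3, 6, 0, 6, 0, 3, 6],
  [0, 2, 0, 6, 0, 1, 4, 0, 6, 2],
  [0, 2, 1, 6, 0, 1, 4, 0, 6, 2, 0, 1],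
  [2, 0, 2, 0, 3, 6, 0, 4, 1, 0, 6, 3],
  [0, 2, 0, 2, 1, 4, 6, 0, 4, 1, 0, 6, 4, 1],
  [0, 2, 0, 3, 6, 2, 0, 6, 3, 0, 4, 1],
  [0, 2, 1, 4, 6, 3, 1, 4, 3, 6],
  [0, 2, 6, 3, 1, 4, 0, 2, 3, 6],
  [0, 3, 1, 4, 0, 3, 0, 2, 3, 0, 3, 0, 4, 1],
  [3, 1, 4, 0, 3, 0, 3, 4, 1, 2, 0, 2],
  [0, 3, 1, 4, 1, 4, 0, 2, 4, 1, 3, 0, 4, 1],
  [0, 3, 6, 3, 6, 3, 0, 6, 1],
  [3, 6, 0, 1, 4, 1, 4, 0, 6, 3, 0, 2],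
  [1, 4, 2, 0, 4, 1, 2, 0, 2, 0]]

/-- a possible relation -/
def keyTwelve : List (Fin 7) :=
  [6, 0, 5, 1, 6, 0, 5, 1, 0, 6, 0, 2, 1, 5, 6, 0, 5, 1, 6, 0, 5, 1, 0, 6, 0, 2, 1, 5, 6, 0, 5, 1, 6, 0, 5, 1, 0, 6, 0, 2, 1, 5]

/-- a possible relation -/
def keyThirteen : List (Fin 7) :=
  [6, 0, 6, 0, 5, 1, 6, 0, 5, 1, 0, 6, 0, 2, 1, 5, 6, 0, 5, 1, 6, 0, 5, 1, 0, 6, 0, 2, 1, 5, 6, 0, 5, 1, 6, 0, 5, 1, 0, 6, 0, 2, 1, 5, 0, 6, 1]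

/-- a possible relation -/
def badZero : List (Fin 7) :=
  [6, 0, 6, 0, 5, 1, 6, 0, 5, 1, 0, 6, 1, 5, 6, 0, 5, 1, 6, 0, 5, 1, 0, 6, 1, 5, 0, 6, 0]

/-- a possible relation -/
def badOne : List (Fin 7) :=
  [6, 0, 6, 0, 5, 1, 6, 0, 5, 1, 0, 6, 1, 5, 6, 0, 5, 1, 6, 0, 5, 1, 0, 6, 1, 5, 0, 6, 0, 1]

/-- The value of a word. -/
def val {G : Type u} [Group G] (L : Fin 7 → G) (w : List (Fin 7)) : G := (w.map L).prod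

/-- The data extracted from the hypotheses. -/
structure Data (G : Type u) [Group G] where
  L : Fin 7 → G
  relA : ∀ w, IsRelA w → val L w = 1
  relB : ∀ w, IsRelB w → val L w = 1
  gen : Subgroup.closure (Set.range L) = ⊤
  proper : Subgroup.closure (L '' {k | k ≠ 6}) ≠ ⊤
  ne_one : L 0 ≠ 1 ∧ L 1 ≠ 1 ∧ val L [0, 2] ≠ 1 ∧ val L [0, 1] ≠ 1
  cent : ∀ g : G, Commute g (val L [0, 2]) → Commute g (val L [0, 1]) →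
    ∃ i : Fin 3, ∃ j : Fin 2, g = val L [0, 2] ^ (i : ℕ) * val L [0, 1] ^ (j : ℕ)

theorem base_ok : ∀ w ∈ base, IsRelA w ∨ IsRelB w := by
  unfold IsRelA IsRelB
  decide +kernel

theorem Data.base_rels {G : Type u} [Group G] (D : Data G) : ∀ w ∈ base, val D.L w = 1 :=
  fun w hw => (base_ok w hw).elim (D.relA w) (D.relB w)

/-- One further relation holds. -/
def StmtRelation : Prop := ∀ (G : Type u) [Group G] [Finite G] (D : Data G),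
  val D.L keyTwelve = 1 ∨ val D.L keyThirteen = 1 ∨ val D.L badZero = 1 ∨ val D.L badOne = 1

/-- The enumerations. -/
def StmtBound : Prop := ∀ (Q : Type u) [Group Q] (L : Fin 7 → Q),
  (∀ w ∈ base, val L w = 1) → Subgroup.closure (Set.range L) = ⊤ →
  (val L keyTwelve = 1 → Nat.card Q ≠ 0 ∧ Nat.card Q ≤ 95040) ∧
  (val L keyThirteen = 1 → Nat.card Q ≠ 0 ∧ Nat.card Q ≤ 5616) ∧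
  (val L badZero = 1 → Subgroup.closure (L '' {k | k ≠ 6}) = ⊤) ∧
  (val L badOne = 1 → Subgroup.closure (L '' {k | k ≠ 6}) = ⊤)

end CfsgLib.ThreeAmalgam
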