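import Cfsg.Agent.Lib.ThreeAmalgam.Interface
import Cfsg.Agent.Lib.ThreeAmalgam.Bound.Sound
import Cfsg.Agent.Lib.ThreeAmalgam.Bound.Squares
import Cfsg.Agent.Lib.ThreeAmalgam.Bound.Twelve
import Cfsg.Agent.Lib.ThreeAmalgam.Bound.Thirteen
import Cfsg.Agent.Lib.ThreeAmalgam.Bound.BadZero
import Cfsg.Agent.Lib.ThreeAmalgam.Bound.BadOne

/-!
# The enumerations

The seven letters are involutions. The first six generate a group of order at most `432`; with one
of the four relations it has index at most `220`, `13`, `1`, `1`.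
-/

set_option autoImplicit false
set_option maxRecDepth 100000

namespace CfsgLib.ThreeAmalgam

open CfsgLib.ThreeAmalgam.Bound

universe u

theorem reps_length : Twelve.cert.reps.length = 220 ∧ Thirteen.cert.reps.length = 13 ∧
    BadZero.cert.reps.length = 1 ∧ BadOne.cert.reps.length = 1 := by decide +kernel

variable {Q : Type u} [Group Q] {L : Fin 7 → Q}

theorem six_card (P : Planes L) :
    Nat.card (six L) ≠ 0 ∧ Nat.card (six L) ≤ 432 := by
  have hrange : ∀ q ∈ six L, ∀ c < 432, ∃ d < 432, P.vA c * q = P.vA d := by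
    intro q hq
    induction hq using Subgroup.closure_induction'' with
    | mem q hq =>
      obtain ⟨k, hk, rfl⟩ := hq
      intro c hc
      obtain ⟨h1, h2⟩ := selA_letter k hk
      obtain ⟨h3, h4⟩ := P.stepA c hc k.1 h1
      exact ⟨_, h3, (congrArg (fun i => P.vA c * L i) h2).symm.trans h4⟩
    | inv_mem q hq =>
      obtain ⟨k, hk, rfl⟩ := hq
      intro c hc
      obtain ⟨h1, h2⟩ := selA_letter k hk
      obtain ⟨h3, h4⟩ := P.stepA c hc k.1 h1
      refine ⟨_, h3, ?_⟩
      rw [inv_eq_of_mul_eq_one_right (P.invol k)]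
      exact (congrArg (fun i => P.vA c * L i) h2).symm.trans h4
    | one => exact fun c hc => ⟨c, hc, mul_one _⟩
    | mul a b _ _ ha hb =>
      intro c hc
      obtain ⟨d, hd, e1⟩ := ha c hc
      obtain ⟨e, he, e2⟩ := hb d hd
      exact ⟨e, he, by rw [← mul_assoc, e1, e2]⟩
  let f : Fin 432 → six L := fun c => ⟨P.vA c.1, vA_mem P c.2⟩
  have hf : Function.Surjective f := by
    rintro ⟨q, hq⟩
    obtain ⟨d, hd, e⟩ := hrange q hq 0 (by norm_num)
    rw [P.zero, one_mul] at e
    exact ⟨⟨d, hd⟩, Subtype.ext e.symm⟩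
  have : Finite (six L) := Finite.of_surjective f hf
  exact ⟨Nat.card_pos.ne', by simpa using Nat.card_le_card_of_surjective f hf⟩

theorem card_of_check (P : Planes L) (hgen : Subgroup.closure (Set.range L) = ⊤)
    {key : List (Fin 7)} (hk : val L key = 1) {T : Table} (hT : checkTable key T = true) {n : ℕ}
    (hn : T.reps.length = n) :
    (Nat.card Q ≠ 0 ∧ Nat.card Q ≤ n * 432) ∧ (n = 1 → six L = ⊤) := by
  obtain ⟨d, ⟨i₀, hi₀⟩, hcov⟩ := cosets_of_check P hgen hk hT
  obtain ⟨h1, h2⟩ := six_card P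
  have : Finite (six L) := Nat.finite_of_card_ne_zero h1
  have hf : Function.Surjective (fun p : Fin T.reps.length × six L => (p.2 : Q) * d p.1) := by
    intro q
    obtain ⟨i, hi⟩ := hcov q
    exact ⟨(i, ⟨q * (d i)⁻¹, hi⟩), inv_mul_cancel_right q (d i)⟩
  have : Finite Q := Finite.of_surjective _ hf
  refine ⟨⟨Nat.card_pos.ne', ?_⟩, fun h => ?_⟩
  · calc Nat.card Q ≤ Nat.card (Fin T.reps.length × six L) :=
          Nat.card_le_card_of_surjective _ hf
      _ = n * Nat.card (six L) := by rw [Nat.card_prod, Nat.card_fin, hn]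
      _ ≤ n * 432 := Nat.mul_le_mul_left n h2
  · rw [eq_top_iff]
    intro q _
    obtain ⟨i, hi⟩ := hcov q
    have : i = i₀ := Fin.ext (by have := i.2; have := i₀.2; omega)
    subst this
    have hq : q * (d i)⁻¹ ∈ six L := hi
    rwa [hi₀, inv_one, mul_one] at hq

/-- The bounds. -/
theorem bound : StmtBound.{u} := by
  intro Q _ L hr hgen
  obtain ⟨P⟩ := exists_planes hr (letters_sq hr)
  obtain ⟨n12, n13, n0, n1⟩ := reps_length
  exact ⟨fun h => (card_of_check P hgen h Twelve.ok n12).1,
    fun h => (card_of_check P hgen h Thirteen.ok n13).1,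
    fun h => (card_of_check P hgen h BadZero.ok n0).2 rfl,
    fun h => (card_of_check P hgen h BadOne.ok n1).2 rfl⟩

end CfsgLib.ThreeAmalgam
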