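import Cfsg.Agent.Lib.ThreeAmalgam.Basic
import Cfsg.Prelude.Def_Spor_Mathieu
import Cfsg.Prelude.Def_Solvable
import Cfsg.Prelude.Def_CaseTheorems

/-!
Statements of the remaining pieces of the recognition of `M₁₂` and `PSL(3, 3)` from an amalgam.
-/

set_option autoImplicit false

namespace CfsgLib.ThreeAmalgam

universe u

/-- The data exist under the hypotheses of the recognition theorem. -/
def StmtSetup : Prop := ∀ (G : Type u) [Group G] [Finite G]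
    (A B : Subgroup G) (_eAB : Nonempty (A ≃* B)) (_hgen : A ⊔ B = ⊤)
    (_hSylA : ¬ 3 ∣ ((A ⊓ B).subgroupOf A).index) (_hSylB : ¬ 3 ∣ ((A ⊓ B).subgroupOf B).index)
    (_hcore : ∀ N : Subgroup G, N ≤ A ⊓ B → (∀ a ∈ A, N.map (MulAut.conj a).toMonoidHom = N) →
      (∀ b ∈ B, N.map (MulAut.conj b).toMonoidHom = N) → N = ⊥)
    (_eA : A ⧸ Cfsg.pCore 3 A ≃* GL (Fin 2) (ZMod 3)) (_eB : B ⧸ Cfsg.pCore 3 B ≃* GL (Fin 2) (ZMod 3))
    (_hOA : IsMulCommutative (Cfsg.pCore 3 A) ∧ (∀ x ∈ Cfsg.pCore 3 A, x ^ 3 = 1) ∧ Nat.card (Cfsg.pCore 3 A) = 9 ∧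
      Subgroup.centralizer ((Cfsg.pCore 3 A : Subgroup A) : Set A) = Cfsg.pCore 3 A)
    (_hOB : IsMulCommutative (Cfsg.pCore 3 B) ∧ (∀ x ∈ Cfsg.pCore 3 B, x ^ 3 = 1) ∧ Nat.card (Cfsg.pCore 3 B) = 9 ∧
      Subgroup.centralizer ((Cfsg.pCore 3 B : Subgroup B) : Set B) = Cfsg.pCore 3 B)
    (S : Sylow 3 ↥(A ⊓ B)) (Z : Subgroup G)
    (_hZ : Z = ((S : Subgroup ↥(A ⊓ B)) ⊓ Subgroup.centralizer ((S : Subgroup ↥(A ⊓ B)) : Set ↥(A ⊓ B))).map (A ⊓ B).subtype)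
    (_hNZ : Subgroup.normalizer (Z : Set G) ≤ A ⊓ B), Nonempty (Data G)

/-- The letters in `M₁₂`. -/
def StmtTwelve : Prop := ∃ L : Fin 7 → Cfsg.Spor.M12,
  (∀ w ∈ base, val L w = 1) ∧ val L keyTwelve = 1 ∧ Subgroup.closure (Set.range L) = ⊤ ∧
    Nat.card Cfsg.Spor.M12 = 95040 ∧ IsSimpleGroup Cfsg.Spor.M12

/-- The letters in `PSL(3, 3)`. -/
def StmtThirteen : Prop := ∃ L : Fin 7 → Matrix.ProjectiveSpecialLinearGroup (Fin 3) (ZMod 3),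
  (∀ w ∈ base, val L w = 1) ∧ val L keyThirteen = 1 ∧ Subgroup.closure (Set.range L) = ⊤ ∧
    Nat.card (Matrix.ProjectiveSpecialLinearGroup (Fin 3) (ZMod 3)) = 5616 ∧
    IsSimpleGroup (Matrix.ProjectiveSpecialLinearGroup (Fin 3) (ZMod 3))

end CfsgLib.ThreeAmalgam
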