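import Mathlib

/-!
The finite checks in the quotient of an involution centraliser: the images of two elements with
the relations of a face, in the three possible quotients.
-/

set_option autoImplicit false

namespace CfsgLib.ThreeAmalgam

set_option synthInstance.maxSize 4000
set_option synthInstance.maxHeartbeats 200000

/-- The relations of `p` against an element `z` of order three and an involution `a` inverting it. -/
def FaceRel {X : Type*} [Group X] (z a p : X) : Prop :=
  p * p = 1 ∧ p * a = a * p ∧ p * (z * p * z⁻¹) = z * p * z⁻¹ * p ∧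
    p * (z * p * z⁻¹) * (z ^ 2 * p * (z ^ 2)⁻¹) = 1

theorem FaceRel.map {X Y : Type*} [Group X] [Group Y] (f : X →* Y) {z a p : X}
    (h : FaceRel z a p) : FaceRel (f z) (f a) (f p) := by
  obtain ⟨h1, h2, h3, h4⟩ := h
  have e1 := congrArg f h1
  have e2 := congrArg f h2
  have e3 := congrArg f h3
  have e4 := congrArg f h4
  simp only [map_mul, map_inv, map_pow, map_one] at e1 e2 e3 e4
  exact ⟨e1, e2, e3, e4⟩

theorem face_perm_three (z a p : Equiv.Perm (Fin 3)) (hz : z ^ 3 = 1) (hz1 : z ≠ 1)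
    (ha : a * a = 1) (haz : a * z * a⁻¹ = z⁻¹) (hp : FaceRel z a p) : p = 1 := by
  have key : ∀ p z a : Equiv.Perm (Fin 3), z ^ 3 = 1 → z ≠ 1 → p * p = 1 →
      p * (z * p * z⁻¹) = z * p * z⁻¹ * p → a * a = 1 → a * z * a⁻¹ = z⁻¹ → p * a = a * p →
      p = 1 := by decide +kernel
  obtain ⟨h1, h2, h3, -⟩ := hp
  exact key p z a hz hz1 h1 h3 ha haz h2

theorem face_alt_five_aux : ∀ p : Equiv.Perm (Fin 5), p * p = 1 → Equiv.Perm.sign p = 1 →
    ∀ z : Equiv.Perm (Fin 5), z * z * z = 1 → z ≠ 1 →
    p * (z * p * z * z) = z * p * z * z * p → p * z * p * z * p * z = 1 →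
    ∀ a : Equiv.Perm (Fin 5), a * a = 1 → Equiv.Perm.sign a = 1 → a * z * a * z = 1 →
    p * a = a * p → p = 1 := by decide +kernel

theorem face_alt_five (z a p : alternatingGroup (Fin 5)) (hz : z ^ 3 = 1) (hz1 : z ≠ 1)
    (ha : a * a = 1) (haz : a * z * a⁻¹ = z⁻¹) (hp : FaceRel z a p) : p = 1 := by
  obtain ⟨h1, h2, h3, h4⟩ := hp.map (alternatingGroup (Fin 5)).subtype
  simp only [Subgroup.coe_subtype] at h1 h2 h3 h4
  have hz' : (z : Equiv.Perm (Fin 5)) * z * z = 1 := by
    rw [← pow_two, ← pow_succ]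
    exact congrArg Subtype.val hz
  have hinv : (z : Equiv.Perm (Fin 5))⁻¹ = z * z :=
    inv_eq_of_mul_eq_one_right (by rw [← mul_assoc, hz'])
  have hinv2 : ((z : Equiv.Perm (Fin 5)) ^ 2)⁻¹ = z :=
    inv_eq_of_mul_eq_one_left (by rw [pow_two, ← mul_assoc, hz'])
  have haz' : (a : Equiv.Perm (Fin 5)) * z * a * z = 1 := by
    have hai : a⁻¹ = a := inv_eq_of_mul_eq_one_right ha
    rw [hai] at haz
    exact congrArg Subtype.val (mul_eq_one_iff_eq_inv.2 haz)
  refine Subtype.ext (face_alt_five_aux p h1 (Equiv.Perm.mem_alternatingGroup.1 p.2) z hz'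
    (fun e => hz1 (Subtype.ext e)) ?_ ?_ a (congrArg Subtype.val ha)
    (Equiv.Perm.mem_alternatingGroup.1 a.2) haz' h2)
  · simpa only [hinv, mul_assoc] using h3
  · rw [hinv2] at h4
    rw [← h4, hinv, pow_two]
    simp only [mul_assoc]
    rw [show (z : Equiv.Perm (Fin 5)) * (z * (z * ((p : Equiv.Perm (Fin 5)) * z))) = p * z by
      rw [← mul_assoc, ← mul_assoc, hz', one_mul]]

/-! ### A computable model of `PSL(2, 7)` -/

namespace Seven

/-- A matrix of order two over the seven-element field, by its entries. -/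
abbrev Quad : Type := ℕ × ℕ × ℕ × ℕ

/-- The product of two matrices. -/
def qmul (x y : Quad) : Quad :=
  ((x.1 * y.1 + x.2.1 * y.2.2.1) % 7, (x.1 * y.2.1 + x.2.1 * y.2.2.2) % 7,
    (x.2.2.1 * y.1 + x.2.2.2 * y.2.2.1) % 7, (x.2.2.1 * y.2.1 + x.2.2.2 * y.2.2.2) % 7)

/-- The negative of a matrix. -/
def qneg (x : Quad) : Quad := ((7 - x.1) % 7, (7 - x.2.1) % 7, (7 - x.2.2.1) % 7, (7 - x.2.2.2) % 7)

/-- The canonical one of a matrix and its negative. -/
def canon (x : Quad) : Quad :=
  if 343 * x.1 + 49 * x.2.1 + 7 * x.2.2.1 + x.2.2.2 ≤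
      343 * (qneg x).1 + 49 * (qneg x).2.1 + 7 * (qneg x).2.2.1 + (qneg x).2.2.2 then x else qneg x

/-- The product of two classes. -/
def cmul (x y : Quad) : Quad := canon (qmul x y)

/-- The class of the identity. -/
def one : Quad := (1, 0, 0, 1)

/-- All the classes. -/
def elems : List Quad :=
  ((List.range 7).flatMap fun a => (List.range 7).flatMap fun b => (List.range 7).flatMap fun c =>
    (List.range 7).map fun d => ((a, b, c, d) : Quad)).filter fun x =>
      decide ((x.1 * x.2.2.2 + 6 * (x.2.1 * x.2.2.1)) % 7 = 1) && decide (canon x = x)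

/-- The classes of square one. -/
def invols : List Quad := elems.filter fun x => decide (cmul x x = one)

/-- The classes of order three. -/
def threes : List Quad :=
  elems.filter fun x => decide (cmul (cmul x x) x = one) && !decide (x = one)

/-- The test of a face against a pair. -/
def face (z a p : Quad) : Bool :=
  decide (cmul p a = cmul a p) &&
    decide (cmul (cmul (cmul (cmul p z) p) z) z = cmul (cmul (cmul (cmul z p) z) z) p) &&
    decide (cmul (cmul (cmul (cmul (cmul p z) p) z) p) z = one)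

/-- The conclusion for a pair of faces. -/
def good (z a p q : Quad) : Bool :=
  decide (cmul (cmul (cmul (cmul p q) z) (cmul (cmul p q) z)) (cmul (cmul p q) z) = one) ||
    decide (cmul (cmul p q) (cmul p q) = a)

/-- The finite check. -/
def check : Bool :=
  threes.all fun z => invols.all fun a =>
    !decide (cmul (cmul (cmul a z) a) z = one) ||
      invols.all fun p => !face z a p || invols.all fun q => !face z a q || good z a p q

theorem check_ok : check = true := by decide +kernel

local notation "SL7" => Matrix.SpecialLinearGroup (Fin 2) (ZMod 7)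

/-- The entries of a matrix. -/
def ent (M : Matrix (Fin 2) (Fin 2) (ZMod 7)) : Quad :=
  ((M 0 0).val, (M 0 1).val, (M 1 0).val, (M 1 1).val)

/-- The class of a matrix. -/
def code (g : SL7) : Quad := canon (ent g.1)

/-- A reduced quadruple. -/
def Reduced (x : Quad) : Prop := x.1 < 7 ∧ x.2.1 < 7 ∧ x.2.2.1 < 7 ∧ x.2.2.2 < 7

theorem qneg_qneg (x : Quad) (h : Reduced x) : qneg (qneg x) = x := by
  obtain ⟨a, b, c, d⟩ := x
  obtain ⟨h1, h2, h3, h4⟩ := h
  simp only [qneg, Prod.mk.injEq]
  dsimp only at h1 h2 h3 h4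
  omega

theorem canon_qneg (x : Quad) (h : Reduced x) : canon (qneg x) = canon x := by
  obtain ⟨a, b, c, d⟩ := x
  obtain ⟨h1, h2, h3, h4⟩ := h
  dsimp only at h1 h2 h3 h4
  have hn := qneg_qneg (a, b, c, d) ⟨h1, h2, h3, h4⟩
  unfold canon
  rw [hn]
  split_ifs with e1 e2 e2
  · simp only [qneg, Prod.mk.injEq] at e1 e2 ⊢
    omega
  · rfl
  · rfl
  · simp only [qneg] at e1 e2
    omega

theorem neg_entry : ∀ t : ZMod 7, (-t).val = (7 - t.val) % 7 := by decide

theorem ent_reduced (M : Matrix (Fin 2) (Fin 2) (ZMod 7)) : Reduced (ent M) :=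
  ⟨(M 0 0).val_lt, (M 0 1).val_lt, (M 1 0).val_lt, (M 1 1).val_lt⟩

theorem ent_neg (M : Matrix (Fin 2) (Fin 2) (ZMod 7)) : ent (-M) = qneg (ent M) := by
  simp only [ent, qneg, Matrix.neg_apply, neg_entry]

theorem code_neg (g : SL7) : code (-g) = code g := by
  show canon (ent (-g.1)) = canon (ent g.1)
  rw [ent_neg, canon_qneg _ (ent_reduced _)]

theorem ent_mul (M N : Matrix (Fin 2) (Fin 2) (ZMod 7)) : ent (M * N) = qmul (ent M) (ent N) := by
  have key : ∀ s t u v : ZMod 7, (s * t + u * v).val = (s.val * t.val + u.val * v.val) % 7 :=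
    fun s t u v => by
      rw [ZMod.val_add, ZMod.val_mul, ZMod.val_mul, ← Nat.add_mod]
  simp only [ent, qmul, Matrix.mul_apply, Fin.sum_univ_two, key]

theorem code_cases (g : SL7) : code g = ent g.1 ∨ code g = ent ((-g : SL7).1) := by
  show canon (ent g.1) = ent g.1 ∨ canon (ent g.1) = ent (-g.1)
  rw [ent_neg]
  unfold canon
  split_ifs
  · exact .inl rfl
  · exact .inr rfl

theorem code_mul (g h : SL7) : code (g * h) = cmul (code g) (code h) := by
  rcases code_cases g with e | e <;> rcases code_cases h with e' | e' <;>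
    rw [e, e', cmul, ← ent_mul]
  · rfl
  · show _ = code (g * -h)
    rw [mul_neg, code_neg]
  · show _ = code (-g * h)
    rw [neg_mul, code_neg]
  · show _ = code (-g * -h)
    rw [neg_mul_neg]

theorem code_mem (g : SL7) : code g ∈ elems := by
  have hc : canon (code g) = code g := by
    rcases code_cases g with e | e
    · conv_lhs => rw [e]
      rfl
    · conv_lhs => rw [e]
      exact code_neg g
  have hd : ∀ k : SL7, ((k.1 0 0).val * (k.1 1 1).val + 6 * ((k.1 0 1).val * (k.1 1 0).val)) % 7 = 1 := by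
    intro k
    have key : ∀ s t u v : ZMod 7, s * t - u * v = 1 →
        (s.val * t.val + 6 * (u.val * v.val)) % 7 = 1 := by decide +kernel
    refine key _ _ _ _ ?_
    have := k.2
    rwa [Matrix.det_fin_two] at this
  rw [elems, List.mem_filter]
  rcases code_cases g with e | e
  · refine ⟨?_, by rw [Bool.and_eq_true, decide_eq_true_iff, decide_eq_true_iff]; exact
      ⟨by rw [e]; exact hd g, hc⟩⟩
    rw [e]
    simp only [ent, List.mem_flatMap, List.mem_map, List.mem_range]
    exact ⟨_, ZMod.val_lt _, _, ZMod.val_lt _, _, ZMod.val_lt _, _, ZMod.val_lt _, rfl⟩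
  · refine ⟨?_, by rw [Bool.and_eq_true, decide_eq_true_iff, decide_eq_true_iff]; exact
      ⟨by rw [e]; exact hd (-g), hc⟩⟩
    rw [e]
    simp only [ent, List.mem_flatMap, List.mem_map, List.mem_range]
    exact ⟨_, ZMod.val_lt _, _, ZMod.val_lt _, _, ZMod.val_lt _, _, ZMod.val_lt _, rfl⟩

theorem mem_center_iff_pm (g : SL7) : g ∈ Subgroup.center SL7 ↔ g = 1 ∨ g = -1 := by
  rw [Matrix.SpecialLinearGroup.mem_center_iff]
  constructor
  · rintro ⟨r, hr, hg⟩
    have key : ∀ r : ZMod 7, r ^ 2 = 1 → r = 1 ∨ r = -1 := by decide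
    rw [Fintype.card_fin] at hr
    rcases key r hr with rfl | rfl
    · exact .inl (Subtype.ext (by simp [← hg]))
    · exact .inr (Subtype.ext (by rw [← hg, map_neg, map_one]; rfl))
  · rintro (rfl | rfl)
    · exact ⟨1, by simp, by simp⟩
    · exact ⟨-1, by simp, by rw [map_neg, map_one]; rfl⟩

theorem code_eq_one_iff (g : SL7) : code g = one ↔ g ∈ Subgroup.center SL7 := by
  rw [mem_center_iff_pm]
  constructor
  · intro h
    have key : ∀ k : SL7, ent k.1 = one → k = 1 := by
      intro k hk
      simp only [ent, one, Prod.mk.injEq] at hk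
      have hv : ∀ t : ZMod 7, (t.val = 0 → t = 0) ∧ (t.val = 1 → t = 1) := by decide
      ext i j
      fin_cases i <;> fin_cases j <;> simp only [Matrix.SpecialLinearGroup.coe_one]
      · simpa using (hv _).2 hk.1
      · simpa using (hv _).1 hk.2.1
      · simpa using (hv _).1 hk.2.2.1
      · simpa using (hv _).2 hk.2.2.2
    rcases code_cases g with e | e <;> rw [e] at h
    · exact .inl (key g h)
    · exact .inr (neg_eq_iff_eq_neg.1 (key (-g) h))
  · rintro (rfl | rfl)
    · rfl
    · rw [code_neg]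
      rfl

/-- The class of an element of `PSL(2, 7)`. -/
def cls : Matrix.ProjectiveSpecialLinearGroup (Fin 2) (ZMod 7) → Quad :=
  Quotient.lift code fun g h hgh => by
    have hm := QuotientGroup.leftRel_apply.1 hgh
    rcases (mem_center_iff_pm _).1 hm with e | e
    · rw [inv_mul_eq_one.1 e]
    · rw [inv_mul_eq_iff_eq_mul.1 e, mul_neg, mul_one, code_neg]

theorem cls_mul (g h : Matrix.ProjectiveSpecialLinearGroup (Fin 2) (ZMod 7)) :
    cls (g * h) = cmul (cls g) (cls h) := by
  obtain ⟨g, rfl⟩ := QuotientGroup.mk_surjective g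
  obtain ⟨h, rfl⟩ := QuotientGroup.mk_surjective h
  exact code_mul g h

theorem cls_mem (g : Matrix.ProjectiveSpecialLinearGroup (Fin 2) (ZMod 7)) : cls g ∈ elems := by
  obtain ⟨g, rfl⟩ := QuotientGroup.mk_surjective g
  exact code_mem g

theorem cls_eq_one_iff (g : Matrix.ProjectiveSpecialLinearGroup (Fin 2) (ZMod 7)) :
    cls g = one ↔ g = 1 := by
  obtain ⟨g, rfl⟩ := QuotientGroup.mk_surjective g
  exact (code_eq_one_iff g).trans (QuotientGroup.eq_one_iff g).symm

theorem cls_injective : Function.Injective cls := fun g h e => by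
  rw [← inv_mul_eq_one, ← cls_eq_one_iff, cls_mul, ← e, ← cls_mul, inv_mul_cancel]
  exact (cls_eq_one_iff 1).2 rfl

end Seven

open Seven in
theorem face_psl_seven (z a p q : Matrix.ProjectiveSpecialLinearGroup (Fin 2) (ZMod 7))
    (hz : z ^ 3 = 1) (hz1 : z ≠ 1) (ha : a * a = 1) (haz : a * z * a⁻¹ = z⁻¹)
    (hp : FaceRel z a p) (hq : FaceRel z a q) : (p * q * z) ^ 3 = 1 ∨ (p * q) ^ 2 = a := by
  have h1 : ∀ g : Matrix.ProjectiveSpecialLinearGroup (Fin 2) (ZMod 7), g = 1 → cls g = one :=
    fun g e => (cls_eq_one_iff g).2 e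
  have hz3 : z * z * z = 1 := by rw [← hz, pow_succ, pow_two]
  have haz' : a * z * a * z = 1 := by
    rw [inv_eq_of_mul_eq_one_right ha] at haz
    exact mul_eq_one_iff_eq_inv.2 haz
  have hinv : z⁻¹ = z * z := inv_eq_of_mul_eq_one_right (by rw [← mul_assoc, hz3])
  have hinv2 : (z ^ 2)⁻¹ = z := inv_eq_of_mul_eq_one_left (by rw [pow_two, ← mul_assoc, hz3])
  have hzm : cls z ∈ threes := by
    rw [threes, List.mem_filter, Bool.and_eq_true, decide_eq_true_iff, Bool.not_eq_true',
      decide_eq_false_iff_not, cls_eq_one_iff, ← cls_mul, ← cls_mul]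
    exact ⟨cls_mem z, h1 _ hz3, hz1⟩
  have hinvol : ∀ g, g * g = 1 → cls g ∈ invols := fun g hg => by
    rw [invols, List.mem_filter, decide_eq_true_iff, ← cls_mul]
    exact ⟨cls_mem g, h1 _ hg⟩
  have hface : ∀ g, FaceRel z a g → face (cls z) (cls a) (cls g) = true := by
    rintro g ⟨-, g2, g3, g4⟩
    simp only [face, Bool.and_eq_true, decide_eq_true_iff, ← cls_mul]
    refine ⟨⟨congrArg cls g2, congrArg cls ?_⟩, h1 _ ?_⟩
    · simpa only [hinv, mul_assoc] using g3
    · rw [hinv2] at g4
      calc g * z * g * z * g * z = g * z * g * 1 * z * g * z := by rw [mul_one]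
        _ = g * z * g * (z * z * z)⁻¹ * z * g * z := by rw [hz3, inv_one]
        _ = g * (z * g * z⁻¹) * (z⁻¹ * g * z) := by group
        _ = g * (z * g * z⁻¹) * (z ^ 2 * g * z) := by rw [show z⁻¹ = z ^ 2 by rw [hinv, pow_two]]
        _ = 1 := g4
  have hc := check_ok
  simp only [check, List.all_eq_true, Bool.or_eq_true, Bool.not_eq_true', decide_eq_false_iff_not] at hc
  have h := (hc (cls z) hzm (cls a) (hinvol a ha)).resolve_left
    (not_not.2 (by rw [← cls_mul, ← cls_mul, ← cls_mul]; exact h1 _ haz'))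
  have h' := (h (cls p) (hinvol p hp.1)).resolve_left (by simp [hface p hp]) (cls q) (hinvol q hq.1)
  have h'' := h'.resolve_left (by simp [hface q hq])
  simp only [good, Bool.or_eq_true, decide_eq_true_iff, ← cls_mul] at h''
  rcases h'' with e | e
  · left
    rw [pow_succ, pow_two]
    exact (cls_eq_one_iff _).1 e
  · right
    rw [pow_two]
    exact cls_injective e

end CfsgLib.ThreeAmalgam
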