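import Cfsg.Agent.Lib.ThreeAmalgam.Basic
import Cfsg.Agent.Lib.ThreeAmalgam.Quotient
import Cfsg.Agent.S3331

/-!
One further relation in the amalgam: in the centraliser of `b` modulo `⟨b⟩` the element `z` spans a
self-centralising subgroup of order three, and the possible groups of that kind give the relation.
-/

set_option autoImplicit false
set_option linter.style.haveILetI false

namespace CfsgLib.ThreeAmalgam

universe u

namespace Rel

/-- letters of `a` -/
def wa : List (Fin 7) := [0]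

/-- letters of `b` -/
def wb : List (Fin 7) := [1]

/-- letters of `e` -/
def we : List (Fin 7) := [0, 2]

/-- letters of `f` -/
def wf : List (Fin 7) := [0, 3]

/-- letters of `u` -/
def wu : List (Fin 7) := [1, 4]

/-- letters of `w` -/
def ww : List (Fin 7) := [5, 1]

/-- letters of `x` -/
def wx : List (Fin 7) := [6, 0]

/-- letters of `z`, seen in `B` -/
def wzB : List (Fin 7) := wx ++ wf ++ wx.reverse

/-- letters of the element of `A` turned into `z` -/
def wzA : List (Fin 7) := ww.reverse ++ wu.reverse ++ ww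

/-- letters of `τ = x w` -/
def wt : List (Fin 7) := wx ++ ww

/-- letters of `z = τ e τ⁻¹` -/
def wz : List (Fin 7) := wt ++ we ++ wt.reverse

/-- letters of `y = τ² w τ⁻²` -/
def wy : List (Fin 7) := wt ++ wt ++ ww ++ wt.reverse ++ wt.reverse

/-- Cancel repeated letters. -/
def red : List (Fin 7) → List (Fin 7)
  | [] => []
  | k :: w => match red w with
    | [] => [k]
    | j :: r => if k = j then r else k :: j :: r

/-- The conditions on a local element before reduction modulo its square. -/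
def Loc {G : Type*} [Group G] (c al z p : G) : Prop :=
  p * p = c ∧ p * al * p⁻¹ * al⁻¹ = c ∧
    p * (z * p * z⁻¹) * p⁻¹ * (z * p * z⁻¹)⁻¹ = c ∧
    p * (z * p * z⁻¹) * (z * (z * p * z⁻¹) * z⁻¹) = 1

theorem Loc.map {G H : Type*} [Group G] [Group H] (f : G →* H) {c al z p : G} (h : Loc c al z p) :
    Loc (f c) (f al) (f z) (f p) :=
  ⟨by simpa using congrArg f h.1, by simpa using congrArg f h.2.1,
    by simpa using congrArg f h.2.2.1, by simpa using congrArg f h.2.2.2⟩

/-- The words of the four conditions. -/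
def locWords (c al z p : List (Fin 7)) : List (List (Fin 7)) :=
  let q := z ++ p ++ z.reverse
  let r := z ++ q ++ z.reverse
  [p ++ p ++ c, p ++ al ++ p.reverse ++ al.reverse ++ c, p ++ q ++ p.reverse ++ q.reverse ++ c,
    p ++ q ++ r]

theorem locA : ∀ w ∈ locWords wa (wa ++ wb) wzA ww, IsRelA w := by
  unfold IsRelA
  decide +kernel

theorem locB : ∀ w ∈ locWords wb wa wzB wx, IsRelB w := by
  unfold IsRelB
  decide +kernel

theorem factsA : ∀ w ∈ [ww ++ we ++ ww.reverse ++ wf.reverse, ww ++ wb ++ ww.reverse ++ wb ++ wa,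
    ww ++ wa ++ ww.reverse ++ wa, wa ++ wb ++ wa ++ wb, wa ++ wa, wb ++ wb, [2, 2], [3, 3], [4, 4], [5, 5],
    we ++ we ++ we],
    IsRelA w := by
  unfold IsRelA
  decide +kernel

theorem factsB : ∀ w ∈ [wx.reverse ++ we ++ wx ++ wu, wx ++ wb ++ wx.reverse ++ wb,
    wx ++ wa ++ wx.reverse ++ wb ++ wa, [6, 6], wzB ++ wzB ++ wzB, wzB ++ wb ++ wzB.reverse ++ wb,
    wa ++ wzB ++ wa ++ wzB], IsRelB w := by
  unfold IsRelB
  decide +kernel

theorem redTwelve : red (wx ++ wy ++ wz ++ (wx ++ wy ++ wz) ++ (wx ++ wy ++ wz)) =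
    red (wx ++ keyTwelve ++ wx.reverse) := by decide +kernel

theorem redThirteen : red (wx ++ wy ++ wz ++ (wx ++ wy ++ wz) ++ (wx ++ wy ++ wz) ++ wb) =
    keyThirteen := by decide +kernel

theorem redZero : red (wx ++ wy ++ (wx ++ wy) ++ wa) = badZero := by decide +kernel

theorem redOne : red (wx ++ wy ++ (wx ++ wy) ++ wa ++ wb) = badOne := by decide +kernel

variable {G : Type u} [Group G] (L : Fin 7 → G)

theorem val_app (p q : List (Fin 7)) : val L (p ++ q) = val L p * val L q := by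
  simp [val]

theorem val_rev (hL : ∀ k, L k * L k = 1) : ∀ p : List (Fin 7), val L p.reverse = (val L p)⁻¹
  | [] => by simp [val]
  | k :: p => by
    rw [List.reverse_cons, val_app, val_rev hL p, show k :: p = [k] ++ p from rfl, val_app,
      mul_inv_rev]
    congr 1
    simpa [val] using eq_inv_of_mul_eq_one_left (hL k)

theorem val_red (hL : ∀ k, L k * L k = 1) : ∀ p : List (Fin 7), val L (red p) = val L p
  | [] => rfl
  | k :: p => by
    have ih := val_red hL p
    rw [red]
    rcases h : red p with _ | ⟨j, r⟩ <;> rw [h] at ih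
    · simp [val] at ih ⊢
      simp [← ih]
    · simp [val] at ih ⊢
      split
      · subst k
        rw [← ih, ← mul_assoc, hL, one_mul]
      · simp [ih]

theorem loc_of_words (hL : ∀ k, L k * L k = 1) {c al z p : List (Fin 7)}
    (hc : val L c * val L c = 1) (h : ∀ w ∈ locWords c al z p, val L w = 1) :
    Loc (val L c) (val L al) (val L z) (val L p) := by
  have hinv : ∀ g : G, g * val L c = 1 → g = val L c := fun g hg =>
    mul_right_cancel (hg.trans hc.symm)
  simp only [locWords, List.forall_mem_cons, val_app, val_rev L hL, mul_assoc] at h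
  obtain ⟨h1, h2, h3, h4, -⟩ := h
  refine ⟨hinv _ ?_, hinv _ ?_, hinv _ ?_, ?_⟩
  · simpa [mul_assoc] using h1
  · simpa [mul_assoc] using h2
  · simpa [mul_assoc] using h3
  · simpa [mul_assoc] using h4

end Rel

section Main

open CfsgLib.ThreeAmalgam.Rel

variable {G : Type u} [Group G] (D : Data G)

theorem Rel.involutions (k : Fin 7) : D.L k * D.L k = 1 := by
  have hA := fun w h => D.relA w (factsA w h)
  have hB := fun w h => D.relB w (factsB w h)
  simp only [List.forall_mem_cons] at hA hB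
  obtain ⟨-, -, -, -, h0, h1, h2, h3, h4, h5, -⟩ := hA
  obtain ⟨-, -, -, h6, -, -, -, -⟩ := hB
  match k with
  | 0 => simpa [val, wa] using h0
  | 1 => simpa [val, wb] using h1
  | 2 => simpa [val] using h2
  | 3 => simpa [val] using h3
  | 4 => simpa [val] using h4
  | 5 => simpa [val] using h5
  | 6 => simpa [val] using h6

/-- What is known about `z`, `a`, `x`, `y` around `b`. -/
theorem Rel.local_facts :
    ∃ b a z x y : G, b = val D.L wb ∧ a = val D.L wa ∧ z = val D.L wz ∧ x = val D.L wx ∧ y = val D.L wy ∧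
    b * b = 1 ∧ b ≠ 1 ∧ a * a = 1 ∧ Commute a b ∧ Commute z b ∧ z * (z * z) = 1 ∧ z ≠ 1 ∧
    a * z * a⁻¹ = z⁻¹ ∧ Loc b a z x ∧ Loc b a z y ∧
    ∀ g : G, Commute g z → Commute g b → ∃ i : Fin 3, ∃ j : Fin 2, g = z ^ (i : ℕ) * b ^ (j : ℕ) := by
  have hL := Rel.involutions D
  have hA := fun w h => D.relA w (factsA w h)
  have hB := fun w h => D.relB w (factsB w h)
  have eA := loc_of_words D.L hL (c := wa) (al := wa ++ wb) (z := wzA) (p := ww)
    (by rw [← val_app]; exact hA _ (by simp)) fun w h => D.relA w (locA w h)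
  have eB := loc_of_words D.L hL (c := wb) (al := wa) (z := wzB) (p := wx)
    (by rw [← val_app]; exact hA _ (by simp)) fun w h => D.relB w (locB w h)
  simp only [List.forall_mem_cons, val_app, val_rev _ hL,
    mul_inv_rev, inv_inv, wzA, wzB] at hA hB eA eB
  obtain ⟨a1, a2, a3, a4, aa, bb, -, -, -, -, e3, -⟩ := hA
  obtain ⟨b1, b2, b3, -, z3, zb, za, -⟩ := hB
  have hne := D.ne_one
  set a := val D.L wa with ha
  set b := val D.L wb with hb
  set e := val D.L we with he
  set f := val D.L wf with hf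
  set u := val D.L wu with hu
  set w := val D.L ww with hw
  set x := val D.L wx with hx
  have ai : a⁻¹ = a := inv_eq_of_mul_eq_one_right aa
  have bi : b⁻¹ = b := inv_eq_of_mul_eq_one_right bb
  have hab : a * b = b * a := by
    calc a * b = a * b * (a * b * a * b)⁻¹ := by rw [a4, inv_one, mul_one]
      _ = b⁻¹ * a⁻¹ := by group
      _ = b * a := by rw [ai, bi]
  have wew : w * e * w⁻¹ = f := mul_inv_eq_one.1 a1
  have wbw : w * b * w⁻¹ = a * b := by
    calc w * b * w⁻¹ = w * b * w⁻¹ * b * a * (b * a)⁻¹ := by group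
      _ = a * b := by
        rw [show w * b * w⁻¹ * b * a = 1 from a2, one_mul, mul_inv_rev, ai, bi]
  have waw : w * a * w⁻¹ = a := by
    calc w * a * w⁻¹ = w * a * w⁻¹ * a * a⁻¹ := by group
      _ = a := by rw [show w * a * w⁻¹ * a = 1 from a3, one_mul, ai]
  have xex : x⁻¹ * e * x = u⁻¹ := eq_inv_of_mul_eq_one_left b1
  have xbx : x * b * x⁻¹ = b := by
    calc x * b * x⁻¹ = x * b * x⁻¹ * b * b⁻¹ := by group
      _ = b := by rw [show x * b * x⁻¹ * b = 1 from b2, one_mul, bi]
  have xax : x * a * x⁻¹ = a * b := by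
    calc x * a * x⁻¹ = x * a * x⁻¹ * b * a * (b * a)⁻¹ := by group
      _ = a * b := by
        rw [show x * a * x⁻¹ * b * a = 1 from b3, one_mul, mul_inv_rev, ai, bi]
  set t := x * w with ht
  have tb : t * b * t⁻¹ = a := by
    calc t * b * t⁻¹ = x * (w * b * w⁻¹) * x⁻¹ := by rw [ht]; group
      _ = x * a * x⁻¹ * (x * b * x⁻¹) := by rw [wbw]; group
      _ = a := by rw [xax, xbx, mul_assoc, bb, mul_one]
  have ta : t * a * t⁻¹ = a * b := by
    calc t * a * t⁻¹ = x * (w * a * w⁻¹) * x⁻¹ := by rw [ht]; group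
      _ = a * b := by rw [waw, xax]
  have tab : t * (a * b) * t⁻¹ = b := by
    calc t * (a * b) * t⁻¹ = t * a * t⁻¹ * (t * b * t⁻¹) := by group
      _ = b := by rw [ta, tb, hab, mul_assoc, aa, mul_one]
  have tza : t * t * (w⁻¹ * u⁻¹ * w) * (t * t)⁻¹ = t * e * t⁻¹ := by
    rw [show w⁻¹ * u⁻¹ * w = t⁻¹ * e * t by rw [← xex, ht]; group]
    group
  have tz : x * f * x⁻¹ = t * e * t⁻¹ := by rw [← wew, ht]; group
  refine ⟨b, a, t * e * t⁻¹, x, t * t * w * (t * t)⁻¹, rfl, rfl, ?_, rfl, ?_, bb, ?_, aa, hab, ?_, ?_,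
    ?_, ?_, ?_, ?_, ?_⟩
  · simp [wz, wt, val_app, val_rev _ hL, ht, he, hw, hx, mul_assoc]
  · simp [wy, wt, val_app, val_rev _ hL, ht, hw, hx, mul_assoc]
  · simpa [hb, val, wb] using hne.2.1
  · rw [← tz]
    show x * f * x⁻¹ * b = b * (x * f * x⁻¹)
    calc x * f * x⁻¹ * b
        = x * f * x⁻¹ * b * (x * f * x⁻¹)⁻¹ * b * b⁻¹ * (x * f * x⁻¹) := by group
      _ = b * (x * f * x⁻¹) := by
        rw [show x * f * x⁻¹ * b * (x * f * x⁻¹)⁻¹ * b = 1 by rw [← zb]; simp only [mul_inv_rev, inv_inv, mul_assoc], one_mul, bi]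
  · calc t * e * t⁻¹ * (t * e * t⁻¹ * (t * e * t⁻¹)) = t * (e * e * e) * t⁻¹ := by group
      _ = 1 := by rw [e3]; group
  · simpa [he, we] using hne.2.2.1
  · rw [← tz]
    refine eq_inv_of_mul_eq_one_left ?_
    rw [ai, ← za]
  · rw [← tz]
    exact eB
  · have h := eA.map (MulAut.conj (t * t)).toMonoidHom
    simp only [MulEquiv.coe_toMonoidHom, MulAut.conj_apply] at h
    have c1 : t * t * a * (t * t)⁻¹ = b := by
      calc t * t * a * (t * t)⁻¹ = t * (t * a * t⁻¹) * t⁻¹ := by group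
        _ = b := by rw [ta, tab]
    have c2 : t * t * (a * b) * (t * t)⁻¹ = a := by
      calc t * t * (a * b) * (t * t)⁻¹ = t * (t * (a * b) * t⁻¹) * t⁻¹ := by group
        _ = a := by rw [tab, tb]
    rwa [c1, c2, tza] at h
  · intro g hg1 hg2
    set φ := MulAut.conj t with hφ
    have p1 : φ e = t * e * t⁻¹ := rfl
    have p2 : φ (a * b) = b := tab
    have hcd : Commute (φ.symm g) e := by
      refine φ.injective ?_
      rw [map_mul, map_mul, φ.apply_symm_apply, p1]
      exact hg1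
    have hcb : Commute (φ.symm g) (a * b) := by
      refine φ.injective ?_
      rw [map_mul (f := φ) (φ.symm g), map_mul (f := φ) (a * b), φ.apply_symm_apply, p2]
      exact hg2
    have habw : val D.L [0, 1] = a * b := by simp [ha, hb, val, wa, wb]
    have hew : val D.L [0, 2] = e := rfl
    obtain ⟨i, j, hij⟩ := D.cent (φ.symm g) (by rw [hew]; exact hcd) (by rw [habw]; exact hcb)
    refine ⟨i, j, ?_⟩
    have := congrArg φ hij
    rwa [φ.apply_symm_apply, map_mul, map_pow, map_pow, habw, hew, p1, p2] at this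

/-- An element acting without fixed points on `N` has order three throughout its coset. -/
theorem Rel.cube_of_fpf {X : Type*} [Group X] [Finite X] {z : X} (hz : z ^ 3 = 1) {N : Subgroup X}
    [N.Normal] (hN : ∀ n ∈ N, Commute n z → n = 1) {m : X} (hm : m ∈ N) : (m * z) ^ 3 = 1 := by
  have hmem : ∀ n ∈ N, n * z * n⁻¹ * z⁻¹ ∈ N := fun n hn => by
    rw [show n * z * n⁻¹ * z⁻¹ = n * (z * n⁻¹ * z⁻¹) by group]
    exact N.mul_mem hn (Subgroup.Normal.conj_mem inferInstance _ (N.inv_mem hn) z)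
  have hinj : Function.Injective (fun n : N => (⟨_, hmem n n.2⟩ : N)) := by
    intro n k h
    have h' : (n : X) * z * (n : X)⁻¹ = k * z * (k : X)⁻¹ :=
      mul_right_cancel (congrArg Subtype.val h)
    have : (k : X)⁻¹ * n = 1 := by
      refine hN _ (N.mul_mem (N.inv_mem k.2) n.2) ?_
      calc (k : X)⁻¹ * n * z = (k : X)⁻¹ * ((n : X) * z * (n : X)⁻¹) * n := by group
        _ = z * ((k : X)⁻¹ * n) := by rw [h']; group
    exact Subtype.ext (inv_mul_eq_one.1 this).symm
  obtain ⟨n, hn⟩ := (Finite.injective_iff_surjective.1 hinj) ⟨m, hm⟩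
  have e : (n : X) * z * (n : X)⁻¹ * z⁻¹ = m := congrArg Subtype.val hn
  rw [← e, inv_mul_cancel_right, conj_pow, hz, mul_one, mul_inv_cancel]

/-- The classification of self-centralising subgroups of order three, in the form needed. -/
theorem Rel.trichotomy {X : Type u} [Group X] [Finite X] {S : Subgroup X} (hcard : Nat.card S = 3)
    (hcent : Subgroup.centralizer (S : Set X) = S) :
    (∃ (N : Subgroup X) (_ : N.Normal), (∀ g : X, g ^ 3 = 1 → g ≠ 1 → g ∉ N) ∧
        (Nat.card (X ⧸ N) = 3 ∨ Nonempty (X ⧸ N ≃* Equiv.Perm (Fin 3)))) ∨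
    (∃ (N : Subgroup X) (_ : N.Normal), (∀ g : X, g ^ 3 = 1 → g ≠ 1 → g ∉ N) ∧
        Nonempty (X ⧸ N ≃* alternatingGroup (Fin 5))) ∨
    Nonempty (X ≃* Matrix.ProjectiveSpecialLinearGroup (Fin 2) (ZMod 7)) := by
  rcases Cfsg.Agent.S3331.result S hcard hcent with ⟨N, hN, -, hcop, hQ⟩ | ⟨N, hN, -, h2, hQ⟩ | h
  · refine Or.inl ⟨N, hN, fun g hg hg1 hgN => ?_, hQ⟩
    haveI : Fact (Nat.Prime 3) := ⟨Nat.prime_three⟩
    have h3 : orderOf (⟨g, hgN⟩ : N) = 3 := by rw [Subgroup.orderOf_mk, orderOf_eq_prime hg hg1]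
    have hd : 3 ∣ Nat.card N := h3 ▸ orderOf_dvd_natCard _
    exact absurd ((Nat.coprime_comm.1 hcop).eq_one_of_dvd hd) (by norm_num)
  · refine Or.inr (Or.inl ⟨N, hN, fun g hg hg1 hgN => hg1 ?_, hQ⟩)
    rwa [pow_succ, h2 g hgN, one_mul] at hg
  · exact Or.inr (Or.inr h)

/-- The dichotomy in a group with a self-centralising subgroup of order three. -/
theorem Rel.dichotomy {X : Type u} [Group X] [Finite X] {al z xi eta : X} (hz : z ^ 3 = 1) (hz1 : z ≠ 1)
    (ha : al * al = 1) (haz : al * z * al⁻¹ = z⁻¹) (hx : FaceRel z al xi) (hy : FaceRel z al eta)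
    (hC : ∀ g, Commute g z → g ∈ Subgroup.zpowers z) :
    (xi * eta * z) ^ 3 = 1 ∨ (xi * eta) ^ 2 = al := by
  haveI : Fact (Nat.Prime 3) := ⟨Nat.prime_three⟩
  have hord : orderOf z = 3 := orderOf_eq_prime hz hz1
  have hcard : Nat.card (Subgroup.zpowers z) = 3 := by rw [Nat.card_zpowers, hord]
  have hcent : Subgroup.centralizer ((Subgroup.zpowers z : Subgroup X) : Set X) = Subgroup.zpowers z := by
    refine le_antisymm (fun g hg => hC g ?_) ?_
    · exact ((Subgroup.mem_centralizer_iff.1 hg) z (Subgroup.mem_zpowers z)).symm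
    · intro g hg
      obtain ⟨i, rfl⟩ := Subgroup.mem_zpowers_iff.1 hg
      refine Subgroup.mem_centralizer_iff.2 fun y hy => ?_
      obtain ⟨j, rfl⟩ := Subgroup.mem_zpowers_iff.1 hy
      exact (((Commute.refl z).zpow_left j).zpow_right i).eq
  have key : ∀ N : Subgroup X, ∀ _ : N.Normal, z ∉ N →
      (∀ p, FaceRel z al p → p ∈ N) → (xi * eta * z) ^ 3 = 1 := by
    intro N hNn hzN h
    refine Rel.cube_of_fpf hz (N := N) (fun n hn hc => ?_) (N.mul_mem (h xi hx) (h eta hy))
    by_contra hn1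
    obtain ⟨i, rfl⟩ := Subgroup.mem_zpowers_iff.1 (hC n hc)
    have hle : Subgroup.zpowers (z ^ i) ≤ N := Subgroup.zpowers_le.2 hn
    have h3 : orderOf (z ^ i) = 3 := orderOf_eq_prime (by
      rw [← zpow_natCast, ← zpow_mul, mul_comm, zpow_mul, zpow_natCast, hz, one_zpow]) hn1
    have heq : Subgroup.zpowers (z ^ i) = Subgroup.zpowers z :=
      Subgroup.eq_of_le_of_card_ge (Subgroup.zpowers_le.2 (Subgroup.mem_zpowers_iff.2 ⟨i, rfl⟩))
        (by rw [hcard, Nat.card_zpowers, h3])
    exact hzN (hle (heq ▸ Subgroup.mem_zpowers z))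
  rcases CfsgLib.ThreeAmalgam.Rel.trichotomy hcard hcent with ⟨N, hN, hzN, hQ⟩ | ⟨N, hN, hzN, hQ⟩ | hP
  · refine Or.inl (key N hN (hzN z hz hz1) fun p hp => (QuotientGroup.eq_one_iff p).1 ?_)
    have hp' := hp.map (QuotientGroup.mk' N)
    rcases hQ with h3 | hS
    · have h := hp'.1
      have h' : (QuotientGroup.mk' N p) ^ 3 = 1 := h3 ▸ pow_card_eq_one'
      rwa [pow_succ, pow_two, h, one_mul] at h'
    · obtain ⟨e⟩ := hS
      let ψ : X →* Equiv.Perm (Fin 3) := e.toMonoidHom.comp (QuotientGroup.mk' N)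
      have hψz : ψ z ≠ 1 := fun h =>
        hzN z hz hz1 ((QuotientGroup.eq_one_iff z).1 ((MulEquiv.map_eq_one_iff e).1 h))
      exact (MulEquiv.map_eq_one_iff e).1 (face_perm_three (ψ z) (ψ al) (ψ p)
        (by rw [← map_pow, hz, map_one]) hψz (by rw [← map_mul, ha, map_one])
        (by rw [← map_inv, ← map_mul, ← map_mul, haz, map_inv]) (hp.map ψ))
  · obtain ⟨e⟩ := hQ
    refine Or.inl (key N hN (hzN z hz hz1) fun p hp => (QuotientGroup.eq_one_iff p).1 ?_)
    let ψ : X →* alternatingGroup (Fin 5) := e.toMonoidHom.comp (QuotientGroup.mk' N)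
    have hψz : ψ z ≠ 1 := fun h =>
      hzN z hz hz1 ((QuotientGroup.eq_one_iff z).1 ((MulEquiv.map_eq_one_iff e).1 h))
    exact (MulEquiv.map_eq_one_iff e).1 (face_alt_five (ψ z) (ψ al) (ψ p)
      (by rw [← map_pow, hz, map_one]) hψz (by rw [← map_mul, ha, map_one])
      (by rw [← map_inv, ← map_mul, ← map_mul, haz, map_inv]) (hp.map ψ))
  · obtain ⟨e⟩ := hP
    rcases face_psl_seven (e z) (e al) (e xi) (e eta)
      (by rw [← map_pow, hz, map_one]) ((MulEquiv.map_ne_one_iff e).2 hz1)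
      (by rw [← map_mul, ha, map_one]) (by rw [← map_inv, ← map_mul, ← map_mul, haz, map_inv])
      (hx.map e.toMonoidHom) (hy.map e.toMonoidHom) with h | h
    · left
      apply e.injective
      rw [map_pow, map_mul, map_mul, map_one, h]
    · right
      apply e.injective
      rw [map_pow, map_mul, h]

/-- One of the four further relations holds. -/
theorem relation : StmtRelation.{u} := by
  intro G _ _ D
  obtain ⟨b, a, z, x, y, hb, ha, hz, hx, hy, bb, hb1, aa, hab, hzb, z3, hz1, haz, lx, ly, hC⟩ :=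
    Rel.local_facts D
  have hL := Rel.involutions D
  let H : Subgroup G := Subgroup.centralizer {b}
  have memH : ∀ {g : G}, Commute g b → g ∈ H := fun {g} hg => Subgroup.mem_centralizer_singleton_iff.2 hg.eq
  let B' : Subgroup H := Subgroup.zpowers ⟨b, memH (Commute.refl b)⟩
  haveI : B'.Normal := ⟨fun n hn g => by
    obtain ⟨i, rfl⟩ := Subgroup.mem_zpowers_iff.1 hn
    have hc : Commute g (⟨b, memH (Commute.refl b)⟩ : H) :=
      Subtype.ext (Subgroup.mem_centralizer_singleton_iff.1 g.2)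
    rw [(hc.zpow_right i).eq, mul_inv_cancel_right]
    exact Subgroup.mem_zpowers_iff.2 ⟨i, rfl⟩⟩
  have hker : ∀ g : H, QuotientGroup.mk' B' g = 1 → (g : G) = 1 ∨ (g : G) = b := by
    intro g hg
    obtain ⟨i, hi⟩ := Subgroup.mem_zpowers_iff.1 ((QuotientGroup.eq_one_iff g).1 hg)
    have hi' : b ^ i = (g : G) := by simpa using congrArg Subtype.val hi
    rw [← hi']
    have b2 : b ^ (2 : ℤ) = 1 := by rw [zpow_two, bb]
    rcases Int.even_or_odd' i with ⟨k, rfl | rfl⟩
    · left; rw [zpow_mul, b2, one_zpow]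
    · right; rw [zpow_add, zpow_mul, b2, one_zpow, one_mul, zpow_one]
  have comm_sq : ∀ p : G, p * p = b → Commute p b := fun p hp => by
    rw [← hp]; exact (Commute.refl p).mul_right (Commute.refl p)
  let A0 : H := ⟨a, memH hab⟩
  let Z0 : H := ⟨z, memH hzb⟩
  let X0 : H := ⟨x, memH (comm_sq x lx.1)⟩
  let Y0 : H := ⟨y, memH (comm_sq y ly.1)⟩
  set π := QuotientGroup.mk' B' with hπ
  have hπb : π ⟨b, memH (Commute.refl b)⟩ = 1 :=
    (QuotientGroup.eq_one_iff _).2 (Subgroup.mem_zpowers _)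
  have face : ∀ (p : G) (hp : Rel.Loc b a z p), FaceRel (π Z0) (π A0) (π ⟨p, memH (comm_sq p hp.1)⟩) := by
    intro p hp
    have h : Rel.Loc (⟨b, memH (Commute.refl b)⟩ : H) A0 Z0 ⟨p, memH (comm_sq p hp.1)⟩ :=
      ⟨Subtype.ext hp.1, Subtype.ext hp.2.1, Subtype.ext hp.2.2.1, Subtype.ext hp.2.2.2⟩
    obtain ⟨h1, h2, h3, h4⟩ := h.map π
    rw [hπb] at h1 h2 h3
    refine ⟨h1, mul_inv_eq_iff_eq_mul.1 (mul_inv_eq_one.1 h2), mul_inv_eq_iff_eq_mul.1 (mul_inv_eq_one.1 h3), ?_⟩
    rw [← h4]; group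
  have hz3 : π Z0 ^ 3 = 1 := by
    rw [← map_pow, show Z0 ^ 3 = 1 from Subtype.ext (by
      show z ^ 3 = 1
      rw [pow_succ, pow_two, mul_assoc, z3]), map_one]
  have hz1' : π Z0 ≠ 1 := fun h => by
    rcases hker Z0 h with h | h
    · exact hz1 h
    · exact hz1 (by rw [show z = b from h] at z3 ⊢; rwa [bb, mul_one] at z3)
  have hC' : ∀ g, Commute g (π Z0) → g ∈ Subgroup.zpowers (π Z0) := by
    intro g hg
    obtain ⟨g, rfl⟩ := QuotientGroup.mk'_surjective B' g
    have h1 : π (g * Z0 * g⁻¹ * Z0⁻¹) = 1 := by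
      rw [map_mul, map_mul, map_mul, map_inv, map_inv, show π g * π Z0 = π Z0 * π g from hg.eq]
      group
    have hgb : Commute (g : G) b := Subgroup.mem_centralizer_singleton_iff.1 g.2
    rcases hker _ h1 with h | h
    · obtain ⟨i, j, hij⟩ := hC g (mul_inv_eq_iff_eq_mul.1 (mul_inv_eq_one.1 h)) hgb
      have : g = Z0 ^ (i : ℕ) * (⟨b, memH (Commute.refl b)⟩ : H) ^ (j : ℕ) := Subtype.ext (by simpa using hij)
      rw [this, map_mul, map_pow, map_pow, hπb, one_pow, mul_one]
      exact Subgroup.npow_mem_zpowers _ _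
    · exfalso
      change (g : G) * z * (g : G)⁻¹ * z⁻¹ = b at h
      have e : (g : G) * z * (g : G)⁻¹ = b * z := by rw [← h, inv_mul_cancel_right]
      have e3 : (b * z) ^ 3 = 1 := by
        rw [← e, conj_pow, pow_succ, pow_two, mul_assoc z, z3, mul_one, mul_inv_cancel]
      rw [(hzb.symm).mul_pow, pow_succ z, pow_two z, mul_assoc z, z3, mul_one, pow_succ, pow_two, bb,
        one_mul] at e3
      exact hb1 e3
  have hcase := Rel.dichotomy (al := π A0) (xi := π X0) (eta := π Y0) hz3 hz1'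
    (by rw [← map_mul, show A0 * A0 = 1 from Subtype.ext aa, map_one])
    (by rw [← map_inv, ← map_mul, ← map_mul, ← map_inv]; exact congrArg π (Subtype.ext haz))
    (face x lx) (face y ly) hC'
  have kk : ∀ p q : List (Fin 7), Rel.red p = q → val D.L p = 1 → val D.L q = 1 := fun p q h hp => by
    rw [← h, Rel.val_red _ hL, hp]
  rcases hcase with h | h
  · rw [← map_mul, ← map_mul, ← map_pow] at h
    rcases hker _ h with h | h <;> change (x * y * z) ^ 3 = _ at h
    · left
      have hW : val D.L (Rel.wx ++ keyTwelve ++ Rel.wx.reverse) = 1 := by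
        rw [← Rel.val_red _ hL, ← Rel.redTwelve, Rel.val_red _ hL]
        simp only [Rel.val_app, ← hx, ← hy, ← hz]
        rw [← h, pow_succ, pow_two]
      rw [Rel.val_app, Rel.val_app, Rel.val_rev _ hL, conj_eq_one_iff] at hW
      exact hW
    · right; left
      refine kk _ _ Rel.redThirteen ?_
      simp only [Rel.val_app, ← hx, ← hy, ← hz, ← hb]
      rw [pow_succ, pow_two] at h
      rw [h, bb]
  · rw [← map_mul, ← map_pow] at h
    have h' : π ((X0 * Y0) ^ 2 * A0) = 1 := by
      rw [map_mul, h, ← map_mul, show A0 * A0 = 1 from Subtype.ext aa, map_one]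
    rcases hker _ h' with h' | h' <;> change (x * y) ^ 2 * a = _ at h'
    · right; right; left
      refine kk _ _ Rel.redZero ?_
      simp only [Rel.val_app, ← hx, ← hy, ← ha]
      rwa [← pow_two]
    · right; right; right
      refine kk _ _ Rel.redOne ?_
      simp only [Rel.val_app, ← hx, ← hy, ← ha, ← hb]
      rw [← pow_two, h', bb]

end Main

end CfsgLib.ThreeAmalgam
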