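import Cfsg.Agent.Lib.ThreeAmalgam.SetupLocal
import Cfsg.Agent.Lib.ThreeAmalgam.SetupWords

/-!
The data of the amalgam exist under the hypotheses of the recognition theorem.
-/

set_option autoImplicit false
set_option linter.unusedSectionVars false
set_option linter.style.haveILetI false

namespace CfsgLib.ThreeAmalgam

open Setup

universe u

namespace Setup

variable {G : Type u} [Group G] [Finite G]

/-- The elements from which the letters are formed. -/
structure Local (DA DB : Side G) where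
  a : G
  b : G
  e : G
  f : G
  u : G
  w : G
  x : G
  ha : DA.IsInverter a
  hb : DB.IsInverter b
  haB : a ∈ DB.K
  hbA : b ∈ DA.K
  ab : Commute a b
  eA : e ∈ DA.Q
  eB : e ∈ DB.Q
  fA : f ∈ DA.Q
  fB : f ∈ DB.K
  uB : u ∈ DB.Q
  uA : u ∈ DA.K
  e_ne : e ≠ 1
  f_ne : f ∉ Subgroup.zpowers e
  u_ne : u ∉ Subgroup.zpowers e
  bf : b * f * b⁻¹ = f
  au : a * u * a⁻¹ = u
  uf : u * f * u⁻¹ = e * f
  wK : w ∈ DA.K
  we : w * e * w⁻¹ = f
  wf : w * f * w⁻¹ = e⁻¹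
  wa : w * a * w⁻¹ = a
  xK : x ∈ DB.K
  xe : x * e * x⁻¹ = u
  xu : x * u * x⁻¹ = e⁻¹
  xb : x * b * x⁻¹ = b

variable {DA DB : Side G} (E : Local DA DB)

/-- The frame of `A`. -/
def Local.frameA : Frame G where
  K := DA.K
  e := E.e
  f := E.f
  c := E.a
  e_mem := DA.le E.eA
  f_mem := DA.le E.fA
  c_mem := E.ha.1
  e3 := DA.cube _ E.eA
  f3 := DA.cube _ E.fA
  comm := DA.comm _ E.eA _ E.fA
  cc := E.ha.2.1
  ce := E.ha.2.2 _ E.eA
  cf := E.ha.2.2 _ E.fA
  inj := (DA.basis E.eA E.fA E.e_ne E.f_ne).1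
  self := fun k hk h1 h2 => (DA.basis E.eA E.fA E.e_ne E.f_ne).2 k
    (DA.commute_of_basis E.eA E.fA E.e_ne E.f_ne hk h1 h2)

/-- The frame of `B`. -/
def Local.frameB : Frame G where
  K := DB.K
  e := E.e
  f := E.u
  c := E.b
  e_mem := DB.le E.eB
  f_mem := DB.le E.uB
  c_mem := E.hb.1
  e3 := DB.cube _ E.eB
  f3 := DB.cube _ E.uB
  comm := DB.comm _ E.eB _ E.uB
  cc := E.hb.2.1
  ce := E.hb.2.2 _ E.eB
  cf := E.hb.2.2 _ E.uB
  inj := (DB.basis E.eB E.uB E.e_ne E.u_ne).1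
  self := fun k hk h1 h2 => (DB.basis E.eB E.uB E.e_ne E.u_ne).2 k
    (DB.commute_of_basis E.eB E.uB E.e_ne E.u_ne hk h1 h2)

/-- The seven letters. -/
def Local.L : Fin 7 → G := ![E.a, E.b, E.a * E.e, E.a * E.f, E.b * E.u, E.w * E.b, E.x * E.a]

theorem inv_eq_pi (e f : G) (he : e ^ 3 = 1) : e⁻¹ = pi e f (2, 0) := by
  rw [pi, show ((2 : ZMod 3), (0 : ZMod 3)).1.val = 2 from rfl,
    show ((2 : ZMod 3), (0 : ZMod 3)).2.val = 0 from rfl, pow_zero, mul_one]
  exact inv_eq_of_mul_eq_one_right (by rw [← pow_succ', he])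

theorem inv_eq_pi' (e f : G) (hf : f ^ 3 = 1) : f⁻¹ = pi e f (0, 2) := by
  rw [pi, show ((0 : ZMod 3), (2 : ZMod 3)).1.val = 0 from rfl,
    show ((0 : ZMod 3), (2 : ZMod 3)).2.val = 2 from rfl, pow_zero, one_mul]
  exact inv_eq_of_mul_eq_one_right (by rw [← pow_succ', hf])

theorem mul_eq_pi (e f : G) : e * f = pi e f (1, 1) := by
  simp [pi, ZMod.val_one]

theorem inv_mul_eq_pi (e f : G) (he : e ^ 3 = 1) : e⁻¹ * f = pi e f (2, 1) := by
  rw [pi, show ((2 : ZMod 3), (1 : ZMod 3)).1.val = 2 from rfl,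
    show ((2 : ZMod 3), (1 : ZMod 3)).2.val = 1 from rfl, pow_one]
  congr 1
  exact inv_eq_of_mul_eq_one_right (by rw [← pow_succ', he])

theorem rot_det : ((0, 1) : Vec).1 * ((2, 0) : Vec).2 - ((0, 1) : Vec).2 * ((2, 0) : Vec).1 ≠ 0 := by
  decide

theorem conj_eq_of_commute {g h : G} (hc : Commute g h) : g * h * g⁻¹ = h := by
  rw [hc.eq, mul_inv_cancel_right]

theorem Local.fu : E.f * E.u * E.f⁻¹ = E.e⁻¹ * E.u := by
  have h := E.uf
  rw [mul_inv_eq_iff_eq_mul] at h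
  rw [mul_inv_eq_iff_eq_mul, mul_assoc, h, ← mul_assoc, ← mul_assoc, inv_mul_cancel, one_mul]

theorem Local.lettersA : E.frameA.Letters letA 6 E.L := by
  let F := E.frameA
  have he3 := DA.cube _ E.eA
  have hf3 := DA.cube _ E.fA
  have ha : F.Moves E.a (fun i => idx (lin (2, 0) (0, 2) (vec i))) :=
    F.moves_lin ((E.ha.2.2 _ E.eA).trans (inv_eq_pi _ _ he3))
      ((E.ha.2.2 _ E.fA).trans (inv_eq_pi' _ _ hf3)) (conj_eq_of_commute (Commute.refl E.a))
  have hb : F.Moves E.b (fun i => idx (lin (2, 0) (0, 1) (vec i))) :=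
    F.moves_lin ((E.hb.2.2 _ E.eB).trans (inv_eq_pi _ _ he3))
      (E.bf.trans (pi_zero_one E.e E.f).symm) (conj_eq_of_commute E.ab.symm)
  have hu : F.Moves E.u (fun i => idx (lin (1, 0) (1, 1) (vec i))) :=
    F.moves_lin ((conj_eq_of_commute (DB.comm _ E.uB _ E.eB)).trans (pi_one_zero E.e E.f).symm)
      (E.uf.trans (mul_eq_pi E.e E.f))
      (conj_eq_of_commute (show Commute E.a E.u from mul_inv_eq_iff_eq_mul.mp E.au).symm)
  have hw : F.Moves E.w (fun i => idx (lin (0, 1) (2, 0) (vec i))) :=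
    F.moves_lin (E.we.trans (pi_zero_one E.e E.f).symm) (E.wf.trans (inv_eq_pi _ _ he3)) E.wa
  have he : F.Moves E.e (fun i => idx ((1, 0) + vec i)) := by
    have h := F.moves_trans (1, 0)
    rwa [pi_one_zero] at h
  have hf : F.Moves E.f (fun i => idx ((0, 1) + vec i)) := by
    have h := F.moves_trans (0, 1)
    rwa [pi_zero_one] at h
  constructor
  · intro k hk
    fin_cases k
    · exact E.ha.1
    · exact E.hbA
    · exact mul_mem E.ha.1 (DA.le E.eA)
    · exact mul_mem E.ha.1 (DA.le E.fA)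
    · exact mul_mem E.hbA E.uA
    · exact mul_mem E.wK E.hbA
    · exact absurd rfl hk
  · intro k hk
    fin_cases k
    · exact F.moves_congr ha (by decide)
    · exact F.moves_congr hb (by decide)
    · exact F.moves_congr (F.moves_mul ha he) (by decide)
    · exact F.moves_congr (F.moves_mul ha hf) (by decide)
    · exact F.moves_congr (F.moves_mul hb hu) (by decide)
    · exact F.moves_congr (F.moves_mul hw hb) (by decide)
    · exact absurd rfl hk

theorem Local.lettersB : E.frameB.Letters letB 5 E.L := by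
  let F := E.frameB
  have he3 := DB.cube _ E.eB
  have hu3 := DB.cube _ E.uB
  have hb : F.Moves E.b (fun i => idx (lin (2, 0) (0, 2) (vec i))) :=
    F.moves_lin ((E.hb.2.2 _ E.eB).trans (inv_eq_pi _ _ he3))
      ((E.hb.2.2 _ E.uB).trans (inv_eq_pi' _ _ hu3)) (conj_eq_of_commute (Commute.refl E.b))
  have ha : F.Moves E.a (fun i => idx (lin (2, 0) (0, 1) (vec i))) :=
    F.moves_lin ((E.ha.2.2 _ E.eA).trans (inv_eq_pi _ _ he3))
      (E.au.trans (pi_zero_one E.e E.u).symm) (conj_eq_of_commute E.ab)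
  have hf : F.Moves E.f (fun i => idx (lin (1, 0) (2, 1) (vec i))) :=
    F.moves_lin ((conj_eq_of_commute (DA.comm _ E.fA _ E.eA)).trans (pi_one_zero E.e E.u).symm)
      (E.fu.trans (inv_mul_eq_pi _ _ he3))
      (conj_eq_of_commute (show Commute E.b E.f from mul_inv_eq_iff_eq_mul.mp E.bf).symm)
  have hx : F.Moves E.x (fun i => idx (lin (0, 1) (2, 0) (vec i))) :=
    F.moves_lin (E.xe.trans (pi_zero_one E.e E.u).symm) (E.xu.trans (inv_eq_pi _ _ he3)) E.xb
  have he : F.Moves E.e (fun i => idx ((1, 0) + vec i)) := by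
    have h := F.moves_trans (1, 0)
    rwa [pi_one_zero] at h
  have hu : F.Moves E.u (fun i => idx ((0, 1) + vec i)) := by
    have h := F.moves_trans (0, 1)
    rwa [pi_zero_one] at h
  constructor
  · intro k hk
    fin_cases k
    · exact E.haB
    · exact E.hb.1
    · exact mul_mem E.haB (DB.le E.eB)
    · exact mul_mem E.haB E.fB
    · exact mul_mem E.hb.1 (DB.le E.uB)
    · exact absurd rfl hk
    · exact mul_mem E.xK E.haB
  · intro k hk
    fin_cases k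
    · exact F.moves_congr ha (by decide)
    · exact F.moves_congr hb (by decide)
    · exact F.moves_congr (F.moves_mul ha he) (by decide)
    · exact F.moves_congr (F.moves_mul ha hf) (by decide)
    · exact F.moves_congr (F.moves_mul hb hu) (by decide)
    · exact absurd rfl hk
    · exact F.moves_congr (F.moves_mul hx ha) (by decide)

theorem Local.val_e : val E.L wE = E.e := by
  simp [val, wE, Local.L, ← mul_assoc, E.ha.2.1]

theorem Local.val_ab : val E.L wAB = E.a * E.b := by simp [val, wAB, Local.L]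

theorem val_append (L : Fin 7 → G) (p q : List (Fin 7)) : val L (p ++ q) = val L p * val L q := by
  simp [val]

theorem val_rep (L : Fin 7 → G) (p : List (Fin 7)) (n : ℕ) : val L (rep p n) = val L p ^ n := by
  induction n with
  | zero => simp [rep, val]
  | succ n ih =>
    rw [rep, List.replicate_succ, List.flatten_cons, val_append, pow_succ']
    rw [← ih, rep]

theorem Local.cent (hC : ∀ g : G, Commute g E.e → g ∈ DA.K) (g : G)
    (h1 : Commute g (val E.L wE)) (h2 : Commute g (val E.L wAB)) :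
    ∃ i : Fin 3, ∃ j : Fin 2, g = val E.L wE ^ (i : ℕ) * val E.L wAB ^ (j : ℕ) := by
  obtain ⟨w, hw, rfl⟩ := E.lettersA.exhaust DA.cardK formsA length_formsA mem_formsA code
    (by rw [map_codeA]; exact nodup_codesA) g (hC g (E.val_e ▸ h1))
  have hw6 := mem_formsA w hw
  have h6E : ∀ k ∈ wE, k ≠ 6 := by decide
  have h6AB : ∀ k ∈ wAB, k ≠ 6 := by decide
  have hrep : ∀ (p : Fin 3) (q : Fin 2), ∀ k ∈ rep wE p ++ rep wAB q, k ≠ 6 := by decide
  have happ : ∀ p q : List (Fin 7), (∀ k ∈ p, k ≠ 6) → (∀ k ∈ q, k ≠ 6) → ∀ k ∈ p ++ q, k ≠ 6 :=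
    fun p q hp hq k hk => (List.mem_append.mp hk).elim (hp k) (hq k)
  obtain ⟨p, q, hpq⟩ := cent_formsA w hw
    (E.lettersA.act_eq (happ _ _ hw6 h6E) (happ _ _ h6E hw6)
      (by rw [val_append, val_append]; exact h1.eq))
    (E.lettersA.act_eq (happ _ _ hw6 h6AB) (happ _ _ h6AB hw6)
      (by rw [val_append, val_append]; exact h2.eq))
  refine ⟨p, q, ?_⟩
  rw [E.lettersA.val_eq hw6 (hrep p q) hpq, val_append, val_rep, val_rep]

theorem Local.ab_ne : E.a * E.b ≠ 1 := fun h => by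
  have hb' : E.b⁻¹ = E.b := inv_eq_of_mul_eq_one_left E.hb.2.1
  have hab : E.a = E.b := by rw [← hb']; exact eq_inv_of_mul_eq_one_left h
  have h1 := E.hb.2.2 _ E.uB
  rw [← hab, E.au] at h1
  exact E.u_ne (by rw [DB.eq_one_of_inv_eq E.uB h1]; exact one_mem _)

/-- The data. -/
theorem Local.data (hgen : DA.K ⊔ DB.K = ⊤) (hA : DA.K ≠ ⊤)
    (hC : ∀ g : G, Commute g E.e → g ∈ DA.K) : Nonempty (Data G) := by
  refine ⟨{ L := E.L, relA := fun w h => E.lettersA.rel h.1 h.2,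
            relB := fun w h => E.lettersB.rel h.1 h.2, gen := ?_, proper := ?_, ne_one := ?_,
            cent := E.cent hC }⟩
  · refine top_le_iff.mp (hgen ▸ sup_le ?_ ?_)
    · exact (E.lettersA.le_closure DA.cardK formsA length_formsA mem_formsA code
        (by rw [map_codeA]; exact nodup_codesA)).trans
          (Subgroup.closure_mono (Set.image_subset_range _ _))
    · exact (E.lettersB.le_closure DB.cardK formsB length_formsB mem_formsB code
        (by rw [map_codeB]; exact nodup_codesB)).trans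
          (Subgroup.closure_mono (Set.image_subset_range _ _))
  · intro h
    refine hA (top_le_iff.mp (h ▸ (Subgroup.closure_le _).mpr ?_))
    rintro _ ⟨k, hk, rfl⟩
    exact E.lettersA.mem k hk
  · refine ⟨fun h => ?_, fun h => ?_, ?_, ?_⟩
    · have h1 := E.ha.2.2 _ E.eA
      rw [show E.a = 1 from h, one_mul, inv_one, mul_one] at h1
      exact E.e_ne (DA.eq_one_of_inv_eq E.eA h1)
    · have h1 := E.hb.2.2 _ E.eB
      rw [show E.b = 1 from h, one_mul, inv_one, mul_one] at h1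
      exact E.e_ne (DB.eq_one_of_inv_eq E.eB h1)
    · show val E.L wE ≠ 1
      rw [E.val_e]; exact E.e_ne
    · show val E.L wAB ≠ 1
      rw [E.val_ab]; exact E.ab_ne

/-- The local elements exist. -/
theorem exists_local (hQA : DA.Q ≤ DB.K) (hQB : DB.Q ≤ DA.K) (hAB : ¬ DA.Q ≤ DB.Q)
    (hBA : ¬ DB.Q ≤ DA.Q) (hI : DA.Q ⊓ DB.Q ≠ ⊥)
    (hN : Subgroup.normalizer ((DA.Q ⊓ DB.Q : Subgroup G) : Set G) ≤ DA.K ⊓ DB.K) :
    ∃ E : Local DA DB, (DA.Q ⊓ DB.Q : Subgroup G) = Subgroup.zpowers E.e := by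
  haveI : Fact (Nat.Prime 3) := ⟨Nat.prime_three⟩
  set Z : Subgroup G := DA.Q ⊓ DB.Q with hZ
  have hcardZ : Nat.card Z = 3 := by
    have h1 : Nat.card Z ∣ 3 ^ 2 := by
      rw [show (3 : ℕ) ^ 2 = 9 from rfl, ← DA.cardQ]; exact Subgroup.card_dvd_of_le inf_le_left
    obtain ⟨k, hk, hk'⟩ := (Nat.dvd_prime_pow Nat.prime_three).mp h1
    interval_cases k
    · exact absurd ((Subgroup.card_eq_one).mp hk') hI
    · exact hk'
    · exact absurd (inf_eq_left.mp (Subgroup.eq_of_le_of_card_ge inf_le_left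
        (by rw [DA.cardQ, hk']; norm_num))) hAB
  have hnorm : ∀ g : G, (∀ z ∈ Z, g * z * g⁻¹ ∈ Z) → g ∈ DA.K ⊓ DB.K := fun g hg => by
    refine hN (Subgroup.mem_normalizer_iff.mpr fun z => ⟨hg z, fun hz => ?_⟩)
    let ψ : Z → Z := fun y => ⟨g * y * g⁻¹, hg y y.2⟩
    have hψ : Function.Injective ψ := fun y y' h =>
      Subtype.ext (mul_left_cancel (mul_right_cancel (congrArg Subtype.val h :)))
    obtain ⟨y, hy⟩ := (Finite.injective_iff_surjective.mp hψ) ⟨_, hz⟩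
    have h2 : (y : G) = z := mul_left_cancel (mul_right_cancel (congrArg Subtype.val hy :))
    exact h2 ▸ y.2
  have hinvmem : ∀ (D : Side G) (a : G), D.IsInverter a → Z ≤ D.Q → a ∈ DA.K ⊓ DB.K :=
    fun D a ha hle => hnorm a fun z hz => by rw [ha.2.2 z (hle hz)]; exact inv_mem hz
  obtain ⟨a, ha⟩ := DA.exists_inverter
  have haI := hinvmem DA a ha inf_le_left
  obtain ⟨b₀, hb₀⟩ := DB.exists_inverter
  have hainv : a⁻¹ = a := inv_eq_of_mul_eq_one_left ha.2.1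
  have hb₀inv : b₀⁻¹ = b₀ := inv_eq_of_mul_eq_one_left hb₀.2.1
  -- make the second involution commute with the first
  set ρ := a * b₀ * a⁻¹ * b₀⁻¹ with hρ
  have hρB : ρ ∈ DB.Q := DB.self _
    (mul_mem (mul_mem (mul_mem haI.2 hb₀.1) (inv_mem haI.2)) (inv_mem hb₀.1)) fun q hq => by
    refine mul_inv_eq_iff_eq_mul.mp ?_
    have h2 := DB.normal a⁻¹ (inv_mem haI.2) _ (inv_mem hq)
    rw [hρ, show a * b₀ * a⁻¹ * b₀⁻¹ * q * (a * b₀ * a⁻¹ * b₀⁻¹)⁻¹ =
        a * (b₀ * (a⁻¹ * (b₀⁻¹ * q * b₀⁻¹⁻¹) * a⁻¹⁻¹) * b₀⁻¹) * a⁻¹ by group, hb₀inv,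
      hb₀.2.2 q hq]
    conv_lhs => arg 1; arg 2; arg 2; rw [← hb₀inv]
    rw [hb₀.2.2 _ h2]
    group
  have hρinv : a * ρ * a⁻¹ = ρ⁻¹ := by
    calc a * ρ * a⁻¹ = (a * a) * b₀ * a⁻¹ * b₀⁻¹ * a⁻¹ := by rw [hρ]; group
      _ = b₀ * a⁻¹ * b₀⁻¹ * a⁻¹ := by rw [ha.2.1, one_mul]
      _ = ρ⁻¹ := by rw [show b₀ * a⁻¹ = b₀ * a by rw [hainv], hρ]; group
  have hρ3 : ρ * ρ * ρ = 1 := by
    rw [← DB.cube ρ hρB, pow_succ, pow_two]
  set b := ρ * ρ * b₀ with hbdef
  have hb : DB.IsInverter b := by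
    refine ⟨mul_mem (mul_mem (DB.le hρB) (DB.le hρB)) hb₀.1, ?_, fun q hq => ?_⟩
    · have h1 : b₀ * (ρ * ρ) * b₀⁻¹ = (ρ * ρ)⁻¹ := hb₀.2.2 _ (mul_mem hρB hρB)
      calc b * b = ρ * ρ * (b₀ * (ρ * ρ) * b₀⁻¹) * (b₀ * b₀) := by rw [hbdef]; group
        _ = 1 := by rw [h1, hb₀.2.1, mul_one, mul_inv_cancel]
    · calc b * q * b⁻¹ = ρ * ρ * (b₀ * q * b₀⁻¹) * (ρ * ρ)⁻¹ := by rw [hbdef]; group
        _ = q⁻¹ := by
          rw [hb₀.2.2 q hq, (DB.comm _ (mul_mem hρB hρB) _ (inv_mem hq)).eq,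
            mul_inv_cancel_right]
  have hab : Commute a b := by
    refine mul_inv_eq_iff_eq_mul.mp ?_
    calc a * b * a⁻¹ = (a * ρ * a⁻¹) * (a * ρ * a⁻¹) * (a * b₀ * a⁻¹ * b₀⁻¹) * b₀ := by
          rw [hbdef]; group
      _ = ρ⁻¹ * ρ⁻¹ * ρ * b₀ := by rw [hρinv, ← hρ]
      _ = b := by
          rw [hbdef, inv_mul_cancel_right]
          congr 1
          exact inv_eq_of_mul_eq_one_left hρ3
  have hbI := hinvmem DB b hb inf_le_right
  -- the translations
  obtain ⟨f, hf, hfn, hbf⟩ := Side.exists_fixed ha hb hbI.1 hab hQA hQB hBA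
  obtain ⟨w₀, hw₀, hwn, haw⟩ := Side.exists_fixed hb ha haI.2 hab.symm hQB hQA hAB
  set e := w₀ * f * w₀⁻¹ * f⁻¹ with hedef
  have heA : e ∈ DA.Q := mul_mem (DA.normal w₀ (hQB hw₀) f hf) (inv_mem hf)
  have heB : e ∈ DB.Q := by
    rw [hedef, show w₀ * f * w₀⁻¹ * f⁻¹ = w₀ * (f * w₀⁻¹ * f⁻¹) by group]
    exact mul_mem hw₀ (DB.normal f (hQA hf) _ (inv_mem hw₀))
  have heZ : e ∈ Z := ⟨heA, heB⟩
  have hzp : ∀ y ∈ Z, y ≠ 1 → Subgroup.zpowers y = Z := fun y hy hy1 =>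
    Subgroup.eq_of_le_of_card_ge (by rwa [Subgroup.zpowers_le]) (by
      rw [hcardZ, Nat.card_zpowers, orderOf_eq_prime (DA.cube y hy.1) hy1])
  have he1 : e ≠ 1 := fun h => hwn (by
    obtain ⟨z₀, hz₀, hz₁⟩ : ∃ z₀ ∈ Z, z₀ ≠ 1 := by
      by_contra hno
      push Not at hno
      exact hI ((Subgroup.eq_bot_iff_forall _).mpr hno)
    have hfz : f ∉ Subgroup.zpowers z₀ := fun h' => hfn (by
      rw [hzp z₀ hz₀ hz₁] at h'; exact h'.2)
    refine DA.commute_of_basis hz₀.1 hf hz₁ hfz (hQB hw₀) (DB.comm _ hw₀ _ hz₀.2) ?_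
    rw [hedef, mul_inv_eq_one, mul_inv_eq_iff_eq_mul] at h
    exact h)
  have hZe : Z = Subgroup.zpowers e := (hzp e heZ he1).symm
  have hfz : f ∉ Subgroup.zpowers e := fun h => hfn (by rw [← hZe] at h; exact h.2)
  have hwz : w₀ ∉ Subgroup.zpowers e := fun h => hwn (by rw [← hZe] at h; exact h.1)
  have huf : w₀ * f * w₀⁻¹ = e * f := by rw [hedef, inv_mul_cancel_right]
  -- the rotations
  obtain ⟨g, hg, hge, hgf⟩ := DA.realise heA hf he1 hfz (0, 1) (2, 0) rot_det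
  rw [pi_zero_one] at hge
  rw [← inv_eq_pi e f (DA.cube e heA)] at hgf
  obtain ⟨w, hw, hwact, hwa⟩ := ha.adjust hg
  obtain ⟨g', hg', hge', hgu⟩ := DB.realise heB hw₀ he1 hwz (0, 1) (2, 0) rot_det
  rw [pi_zero_one] at hge'
  rw [← inv_eq_pi e w₀ (DB.cube e heB)] at hgu
  obtain ⟨x, hx, hxact, hxb⟩ := hb.adjust hg'
  exact ⟨{ a := a, b := b, e := e, f := f, u := w₀, w := w, x := x, ha := ha, hb := hb,
           haB := haI.2, hbA := hbI.1, ab := hab, eA := heA, eB := heB, fA := hf, fB := hQA hf,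
           uB := hw₀, uA := hQB hw₀, e_ne := he1, f_ne := hfz, u_ne := hwz, bf := hbf, au := haw,
           uf := huf, wK := hw, we := (hwact e heA).trans hge, wf := (hwact f hf).trans hgf,
           wa := hwa, xK := hx, xe := (hxact e heB).trans hge', xu := (hxact w₀ hw₀).trans hgu,
           xb := hxb }, hZe⟩

end Setup

/-- The data exist under the hypotheses of the recognition theorem. -/
theorem setup : StmtSetup.{u} := by
  intro G _ _ A B eAB hgen hSylA hSylB hcore eA eB hOA hOB S Z hZ hNZ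
  haveI : Fact (Nat.Prime 3) := ⟨Nat.prime_three⟩
  obtain ⟨DA, hDAK, hDAQ⟩ := exists_side A eA hOA
  obtain ⟨DB, hDBK, hDBQ⟩ := exists_side B eB hOB
  set P := (S : Subgroup ↥(A ⊓ B)).map (A ⊓ B).subtype with hP
  have hPA : DA.Q ≤ P := hDAQ ▸ pCore_le_of_index inf_le_left hSylA S
  have hPB : DB.Q ≤ P := hDBQ ▸ pCore_le_of_index inf_le_right hSylB S
  have hPH : P ≤ A ⊓ B := Subgroup.map_subtype_le _
  have hQA : DA.Q ≤ DB.K := hDBK ▸ (hPA.trans hPH).trans inf_le_right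
  have hQB : DB.Q ≤ DA.K := hDAK ▸ (hPB.trans hPH).trans inf_le_left
  have hcore' : ∀ N : Subgroup G, N ≤ A ⊓ B → (∀ g ∈ A, ∀ q ∈ N, g * q * g⁻¹ ∈ N) →
      (∀ g ∈ B, ∀ q ∈ N, g * q * g⁻¹ ∈ N) → N = ⊥ := fun N hN hA hB => by
    refine hcore N hN (fun g hg => ?_) (fun g hg => ?_) <;>
    · refine Subgroup.eq_of_le_of_card_ge ?_ ?_
      · rintro _ ⟨q, hq, rfl⟩
        first
          | exact hA g hg q hq
          | exact hB g hg q hq
      · rw [Subgroup.card_map_of_injective (MulAut.conj g).injective]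
  have hQne : ∀ D : Side G, D.Q ≠ ⊥ := fun D h => by
    have := D.cardQ
    rw [h, Subgroup.card_bot] at this
    norm_num at this
  have hneQ : DA.Q ≠ DB.Q := fun h => hQne DA (hcore' DA.Q
    (le_inf (hDAK ▸ DA.le) (hDBK ▸ hQA)) (fun g hg => DA.normal g (hDAK.symm ▸ hg))
    (fun g hg => h ▸ DB.normal g (hDBK.symm ▸ hg)))
  have hAB : ¬ DA.Q ≤ DB.Q := fun h => hneQ (Subgroup.eq_of_le_of_card_ge h
    (by rw [DA.cardQ, DB.cardQ]))
  have hBA : ¬ DB.Q ≤ DA.Q := fun h => hneQ (Subgroup.eq_of_le_of_card_ge h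
    (by rw [DA.cardQ, DB.cardQ])).symm
  have hZle : Z ≤ DA.Q ⊓ DB.Q := by
    rw [hZ]
    rintro _ ⟨z, hz, rfl⟩
    have hc : ∀ q ∈ P, Commute (z : G) q := by
      rintro _ ⟨y, hy, rfl⟩
      exact congrArg Subtype.val (Subgroup.mem_centralizer_iff.mp hz.2 y hy).symm
    exact ⟨DA.self _ (hDAK.symm ▸ z.2.1) fun q hq => hc q (hPA hq),
      DB.self _ (hDBK.symm ▸ z.2.2) fun q hq => hc q (hPB hq)⟩
  have hZne : Z ≠ ⊥ := by
    haveI : Nontrivial (S : Subgroup ↥(A ⊓ B)) := by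
      refine (Subgroup.nontrivial_iff_ne_bot _).mpr fun h => hQne DA ?_
      rw [hP, h, Subgroup.map_bot] at hPA
      exact le_bot_iff.mp hPA
    haveI := S.isPGroup'.center_nontrivial
    obtain ⟨⟨⟨c, hc⟩, hc'⟩, hcne⟩ := exists_ne (1 : Subgroup.center (S : Subgroup ↥(A ⊓ B)))
    intro h
    refine hcne (Subtype.ext (Subtype.ext (Subtype.ext ?_)))
    have hmem : (c : G) ∈ Z := by
      rw [hZ]
      exact ⟨c, ⟨hc, Subgroup.mem_centralizer_iff.mpr fun y hy =>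
        congrArg Subtype.val (Subgroup.mem_center_iff.mp hc' ⟨y, hy⟩)⟩, rfl⟩
    rw [h] at hmem
    exact Subgroup.mem_bot.mp hmem
  have hZeq : Z = DA.Q ⊓ DB.Q := by
    refine Subgroup.eq_of_le_of_card_ge hZle ?_
    have h2 : Nat.card ↥(DA.Q ⊓ DB.Q : Subgroup G) ∣ 3 ^ 2 := by
      rw [show (3 : ℕ) ^ 2 = 9 from rfl, ← DA.cardQ]; exact Subgroup.card_dvd_of_le inf_le_left
    obtain ⟨k, hk, hk'⟩ := (Nat.dvd_prime_pow Nat.prime_three).mp h2
    have hk1 : k ≤ 1 := by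
      by_contra hlt
      obtain rfl : k = 2 := by omega
      exact hAB (inf_eq_left.mp (Subgroup.eq_of_le_of_card_ge inf_le_left
        (by rw [DA.cardQ, hk']; norm_num)))
    have h3 : 1 < Nat.card Z := Subgroup.one_lt_card_iff_ne_bot _ |>.mpr hZne
    have h4 : Nat.card Z ∣ 3 := (Subgroup.card_dvd_of_le hZle).trans
      (hk' ▸ (Nat.pow_dvd_pow 3 hk1).trans (by norm_num))
    have h5 : Nat.card Z = 3 := ((Nat.dvd_prime Nat.prime_three).mp h4).resolve_left (by omega)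
    rw [h5, hk']
    exact (Nat.pow_le_pow_right (by norm_num) hk1).trans_eq (pow_one 3)
  obtain ⟨E, hE⟩ := exists_local hQA hQB hAB hBA
    (hZeq ▸ hZne) (by rw [hDAK, hDBK, ← hZeq]; exact hNZ)
  refine E.data (by rw [hDAK, hDBK]; exact hgen) ?_ fun g hg => ?_
  · rw [hDAK]
    intro htop
    refine hQne DA (hcore' DA.Q (le_inf (hDAK ▸ DA.le) (hDBK ▸ hQA))
      (fun g hg => DA.normal g (hDAK.symm ▸ hg)) fun g _ => DA.normal g ?_)
    rw [hDAK, htop]; trivial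
  · rw [hDAK]
    refine (hNZ (Subgroup.mem_normalizer_iff.mpr fun z => ?_)).1
    rw [hZeq, hE]
    constructor
    · rintro ⟨n, rfl⟩
      exact ⟨n, ((hg.zpow_right n).eq ▸ (mul_inv_cancel_right _ g).symm :)⟩
    · rintro ⟨n, hn⟩
      refine ⟨n, ?_⟩
      show E.e ^ n = z
      have hn' : E.e ^ n = g * z * g⁻¹ := hn
      rw [show z = g⁻¹ * (g * z * g⁻¹) * g by group, ← hn', mul_assoc, ← (hg.zpow_right n).eq,
        inv_mul_cancel_left]

end CfsgLib.ThreeAmalgam
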