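import Cfsg.Agent.Lib.ThreeAmalgam.Basic

/-!
An affine frame in a group: the action by conjugation on the nine involutions over a translation
group of order nine.
-/

set_option autoImplicit false
set_option linter.unusedSectionVars false

namespace CfsgLib.ThreeAmalgam.Setup

universe u

variable {G : Type u} [Group G]

/-- The plane. -/
abbrev Vec : Type := ZMod 3 × ZMod 3

/-- The number of a point. -/
def idx (v : Vec) : Fin 9 :=
  ⟨3 * v.1.val + v.2.val, by
    have h1 := ZMod.val_lt v.1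
    have h2 := ZMod.val_lt v.2
    omega⟩

/-- The point with a number. -/
def vec (i : Fin 9) : Vec := (((i : ℕ) / 3 : ℕ), ((i : ℕ) % 3 : ℕ))

theorem vec_idx : ∀ v : Vec, vec (idx v) = v := by decide

theorem idx_vec : ∀ i : Fin 9, idx (vec i) = i := by decide

/-- The linear map with given images of the basis. -/
def lin (p q v : Vec) : Vec := (v.1 * p.1 + v.2 * q.1, v.1 * p.2 + v.2 * q.2)

/-- The element with given coordinates. -/
def pi (e f : G) (v : Vec) : G := e ^ v.1.val * f ^ v.2.val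

theorem pow_val_add {x : G} (hx : x ^ 3 = 1) (a b : ZMod 3) :
    x ^ (a + b).val = x ^ a.val * x ^ b.val := by
  rw [← pow_add, ZMod.val_add, ← pow_eq_pow_mod _ hx]

theorem pi_add {e f : G} (he : e ^ 3 = 1) (hf : f ^ 3 = 1) (hc : Commute e f) (v w : Vec) :
    pi e f (v + w) = pi e f v * pi e f w := by
  simp only [pi, Prod.fst_add, Prod.snd_add, pow_val_add he, pow_val_add hf]
  rw [mul_assoc, ← mul_assoc (e ^ w.1.val), (hc.pow_pow w.1.val v.2.val).eq]
  simp only [mul_assoc]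

theorem pi_zero (e f : G) : pi e f 0 = 1 := by simp [pi]

theorem pi_nsmul {e f : G} (he : e ^ 3 = 1) (hf : f ^ 3 = 1) (hc : Commute e f) (v : Vec) :
    ∀ n : ℕ, pi e f (n • v) = pi e f v ^ n
  | 0 => by rw [zero_nsmul, pi_zero, pow_zero]
  | n + 1 => by rw [succ_nsmul, pi_add he hf hc, pi_nsmul he hf hc v n, pow_succ]

theorem pi_one_zero (e f : G) : pi e f (1, 0) = e := by simp [pi, ZMod.val_one]

theorem pi_zero_one (e f : G) : pi e f (0, 1) = f := by simp [pi, ZMod.val_one]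

theorem conj_pi {e f g : G} {p q : Vec} (he : e ^ 3 = 1) (hf : f ^ 3 = 1) (hc : Commute e f)
    (hp : g * e * g⁻¹ = pi e f p) (hq : g * f * g⁻¹ = pi e f q) (v : Vec) :
    g * pi e f v * g⁻¹ = pi e f (lin p q v) := by
  have h1 : g * pi e f v * g⁻¹ = (g * e * g⁻¹) ^ v.1.val * (g * f * g⁻¹) ^ v.2.val := by
    rw [conj_pow, conj_pow, pi]; group
  rw [h1, hp, hq, ← pi_nsmul he hf hc, ← pi_nsmul he hf hc, ← pi_add he hf hc]
  congr 1
  simp [lin, Prod.ext_iff, ZMod.natCast_zmod_val]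

/-- A translation group of order nine with a basis, and an involution inverting it. -/
structure Frame (G : Type u) [Group G] where
  K : Subgroup G
  e : G
  f : G
  c : G
  e_mem : e ∈ K
  f_mem : f ∈ K
  c_mem : c ∈ K
  e3 : e ^ 3 = 1
  f3 : f ^ 3 = 1
  comm : Commute e f
  cc : c * c = 1
  ce : c * e * c⁻¹ = e⁻¹
  cf : c * f * c⁻¹ = f⁻¹
  inj : ∀ v, pi e f v = 1 → v = 0
  self : ∀ k ∈ K, Commute k e → Commute k f → ∃ v, k = pi e f v

namespace Frame

variable (F : Frame G)

/-- The nine involutions. -/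
def pt (i : Fin 9) : G := pi F.e F.f (vec i) * F.c * (pi F.e F.f (vec i))⁻¹

/-- `g` permutes the nine involutions by `τ`. -/
def Moves (g : G) (τ : Fin 9 → Fin 9) : Prop := ∀ i, g * F.pt i * g⁻¹ = F.pt (τ i)

theorem pi_add' (v w : Vec) : pi F.e F.f (v + w) = pi F.e F.f v * pi F.e F.f w :=
  pi_add F.e3 F.f3 F.comm v w

theorem pi_neg (v : Vec) : pi F.e F.f (-v) = (pi F.e F.f v)⁻¹ :=
  eq_inv_of_mul_eq_one_left (by rw [← F.pi_add', neg_add_cancel, pi_zero])

theorem conj_c (v : Vec) : F.c * pi F.e F.f v * F.c⁻¹ = pi F.e F.f (-v) := by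
  have h : F.c * pi F.e F.f v * F.c⁻¹ =
      (F.c * F.e * F.c⁻¹) ^ v.1.val * (F.c * F.f * F.c⁻¹) ^ v.2.val := by
    rw [conj_pow, conj_pow, pi]; group
  rw [h, F.ce, F.cf, inv_pow, inv_pow, F.pi_neg, pi,
    ← (((F.comm.pow_pow v.1.val v.2.val).inv_inv)).symm.eq, mul_inv_rev]

theorem pt_eq (i : Fin 9) : F.pt i = pi F.e F.f (vec i + vec i) * F.c := by
  have h := F.conj_c (-vec i)
  rw [neg_neg, F.pi_neg, mul_inv_eq_iff_eq_mul] at h
  rw [pt, mul_assoc, h, ← mul_assoc, ← F.pi_add']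

theorem pt_injective : Function.Injective F.pt := fun i j h => by
  rw [F.pt_eq, F.pt_eq] at h
  have h2 := mul_right_cancel h
  have h3 : pi F.e F.f ((vec i + vec i) + -(vec j + vec j)) = 1 := by
    rw [F.pi_add', F.pi_neg, h2, mul_inv_cancel]
  have h4 := F.inj _ h3
  have key : ∀ a b : Fin 9, (vec a + vec a) + -(vec b + vec b) = 0 → a = b := by decide
  exact key i j h4

theorem moves_lin {g : G} {p q : Vec} (hp : g * F.e * g⁻¹ = pi F.e F.f p)
    (hq : g * F.f * g⁻¹ = pi F.e F.f q) (hc : g * F.c * g⁻¹ = F.c) :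
    F.Moves g (fun i => idx (lin p q (vec i))) := fun i => by
  have h := conj_pi F.e3 F.f3 F.comm hp hq (vec i)
  rw [pt, pt, vec_idx, ← h]
  conv_rhs => arg 1; arg 2; rw [← hc]
  group

theorem moves_trans (v : Vec) : F.Moves (pi F.e F.f v) (fun i => idx (v + vec i)) := fun i => by
  rw [pt, pt, vec_idx, F.pi_add', mul_inv_rev]
  group

theorem moves_mul {g h : G} {τ σ : Fin 9 → Fin 9} (hg : F.Moves g τ) (hh : F.Moves h σ) :
    F.Moves (g * h) (fun i => τ (σ i)) := fun i => by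
  rw [show g * h * F.pt i * (g * h)⁻¹ = g * (h * F.pt i * h⁻¹) * g⁻¹ by group, hh i, hg (σ i)]

theorem moves_one : F.Moves 1 (fun i => i) := fun i => by simp

theorem moves_congr {g : G} {τ σ : Fin 9 → Fin 9} (hg : F.Moves g τ) (h : ∀ i, τ i = σ i) :
    F.Moves g σ := fun i => (hg i).trans (congrArg F.pt (h i))

theorem moves_unique {g : G} {τ σ : Fin 9 → Fin 9} (hτ : F.Moves g τ) (hσ : F.Moves g σ)
    (i : Fin 9) : τ i = σ i :=
  F.pt_injective ((hτ i).symm.trans (hσ i))

theorem eq_one {g : G} (hg : g ∈ F.K) (h : F.Moves g (fun i => i)) : g = 1 := by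
  have h0 : g * F.c * g⁻¹ = F.c := by
    have := h 0
    have hv : vec 0 = 0 := by decide
    simpa [pt, hv, pi_zero] using this
  have hfix : ∀ v, Commute g (pi F.e F.f v) := by
    intro v
    have h1 : ∀ i, g * pi F.e F.f (vec i + vec i) * g⁻¹ = pi F.e F.f (vec i + vec i) := fun i => by
      have h2 := h i
      rw [F.pt_eq] at h2
      refine mul_right_cancel (b := F.c) ?_
      conv_lhs => rw [← h0]
      rw [← h2]
      group
    have h3 := h1 (idx (v + v))
    have key : ∀ w : Vec, w + w + (w + w) = w := by decide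
    rw [vec_idx, key v] at h3
    exact mul_inv_eq_iff_eq_mul.mp h3
  obtain ⟨v, rfl⟩ := F.self g hg (by simpa [pi_one_zero] using hfix (1, 0))
    (by simpa [pi_zero_one] using hfix (0, 1))
  have h4 := F.conj_c v
  rw [mul_inv_eq_iff_eq_mul] at h0
  rw [← h0, mul_inv_cancel_right] at h4
  have h5 : pi F.e F.f (v + v) = 1 := by
    nth_rewrite 2 [← neg_neg v]
    rw [F.pi_add', F.pi_neg (-v), ← h4, mul_inv_cancel]
  have key : ∀ w : Vec, w + w = 0 → w = 0 := by decide
  rw [key v (F.inj _ h5), pi_zero]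

theorem moves_inv {g : G} {τ : Fin 9 → Fin 9} (hg : F.Moves g τ) (i : Fin 9) :
    g⁻¹ * F.pt (τ i) * g = F.pt i := by
  rw [← hg i]; group

theorem eq_of_moves {g h : G} {τ : Fin 9 → Fin 9} (hgK : g ∈ F.K) (hhK : h ∈ F.K)
    (hg : F.Moves g τ) (hh : F.Moves h τ) : g = h := by
  refine (inv_mul_eq_one.mp (F.eq_one (mul_mem (inv_mem hhK) hgK) fun i => ?_)).symm
  rw [show h⁻¹ * g * F.pt i * (h⁻¹ * g)⁻¹ = h⁻¹ * (g * F.pt i * g⁻¹) * h by group, hg i,
    F.moves_inv hh i]

/-- The letters act as prescribed. -/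
structure Letters (l : Fin 7 → List (Fin 9)) (x : Fin 7) (L : Fin 7 → G) : Prop where
  mem : ∀ k, k ≠ x → L k ∈ F.K
  moves : ∀ k, k ≠ x → F.Moves (L k) (fun i => (l k).getD i.1 0)

variable {F} {l : Fin 7 → List (Fin 9)} {x : Fin 7} {L : Fin 7 → G}

theorem Letters.val_spec (hL : F.Letters l x L) :
    ∀ w : List (Fin 7), (∀ k ∈ w, k ≠ x) → val L w ∈ F.K ∧ F.Moves (val L w) (act l w)
  | [], _ => ⟨by simp [val], F.moves_congr (τ := fun i => i)
      (by simpa [val] using F.moves_one) fun i => rfl⟩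
  | k :: w, hw => by
    obtain ⟨h1, h2⟩ := hL.val_spec w fun j hj => hw j (List.mem_cons_of_mem _ hj)
    have hk := hw k List.mem_cons_self
    have hv : val L (k :: w) = L k * val L w := by simp [val]
    rw [hv]
    exact ⟨mul_mem (hL.mem k hk) h1,
      F.moves_congr (F.moves_mul (hL.moves k hk) h2) fun i => rfl⟩

theorem Letters.rel (hL : F.Letters l x L) {w : List (Fin 7)} (hw : ∀ k ∈ w, k ≠ x)
    (ht : ∀ i, act l w i = i) : val L w = 1 :=
  F.eq_one (hL.val_spec w hw).1 (F.moves_congr (hL.val_spec w hw).2 ht)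

theorem Letters.act_eq (hL : F.Letters l x L) {w w' : List (Fin 7)} (hw : ∀ k ∈ w, k ≠ x)
    (hw' : ∀ k ∈ w', k ≠ x) (h : val L w = val L w') (i : Fin 9) : act l w i = act l w' i :=
  F.moves_unique (hL.val_spec w hw).2 (h ▸ (hL.val_spec w' hw').2) i

theorem Letters.val_eq (hL : F.Letters l x L) {w w' : List (Fin 7)} (hw : ∀ k ∈ w, k ≠ x)
    (hw' : ∀ k ∈ w', k ≠ x) (h : ∀ i, act l w i = act l w' i) : val L w = val L w' :=
  F.eq_of_moves (hL.val_spec w hw).1 (hL.val_spec w' hw').1 (hL.val_spec w hw).2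
    (F.moves_congr (hL.val_spec w' hw').2 fun i => (h i).symm)

/-- Words with different actions exhaust the group. -/
theorem Letters.exhaust [Finite G] (hL : F.Letters l x L) (hK : Nat.card F.K = 432)
    (ws : List (List (Fin 7))) (hlen : ws.length = 432) (hws : ∀ w ∈ ws, ∀ k ∈ w, k ≠ x)
    (code : (Fin 9 → Fin 9) → ℕ) (hcode : (ws.map fun w => code (act l w)).Nodup) :
    ∀ g ∈ F.K, ∃ w ∈ ws, g = val L w := by
  intro g hg
  let φ : Fin ws.length → F.K := fun i =>
    ⟨val L ws[i], (hL.val_spec _ (hws _ (List.getElem_mem i.2))).1⟩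
  have hinj : Function.Injective φ := fun i j h => by
    have h1 := funext (hL.act_eq (hws _ (List.getElem_mem i.2)) (hws _ (List.getElem_mem j.2))
      (congrArg Subtype.val h))
    refine Fin.ext ((hcode.getElem_inj_iff (hi := by rw [List.length_map]; exact i.2)
      (hj := by rw [List.length_map]; exact j.2)).mp ?_)
    simp only [List.getElem_map]
    exact congrArg code h1
  have hbij := (Nat.bijective_iff_injective_and_card φ).2
    ⟨hinj, by rw [Nat.card_fin, hlen, hK]⟩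
  obtain ⟨i, hi⟩ := hbij.2 ⟨g, hg⟩
  exact ⟨_, List.getElem_mem i.2, (congrArg Subtype.val hi).symm⟩

/-- The letters generate the group. -/
theorem Letters.le_closure [Finite G] (hL : F.Letters l x L) (hK : Nat.card F.K = 432)
    (ws : List (List (Fin 7))) (hlen : ws.length = 432) (hws : ∀ w ∈ ws, ∀ k ∈ w, k ≠ x)
    (code : (Fin 9 → Fin 9) → ℕ) (hcode : (ws.map fun w => code (act l w)).Nodup) :
    F.K ≤ Subgroup.closure (L '' {k | k ≠ x}) := fun g hg => by
  obtain ⟨w, hw, rfl⟩ := hL.exhaust hK ws hlen hws code hcode g hg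
  refine Subgroup.list_prod_mem _ fun y hy => ?_
  obtain ⟨k, hk, rfl⟩ := List.mem_map.mp hy
  exact Subgroup.subset_closure ⟨k, hws w hw k hk, rfl⟩

end Frame

end CfsgLib.ThreeAmalgam.Setup
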