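import Cfsg.Agent.Lib.ThreeAmalgam.SetupFrame
import Cfsg.Agent.Lib.ThreeAmalgam.Interface
import Cfsg.Agent.Lib.Base.Cores

/-!
The local structure of a group `3^2:GL(2,3)`: bases, realisation of automorphisms, the central
involutions and their fixed points.
-/

set_option autoImplicit false
set_option linter.unusedSectionVars false
set_option linter.style.haveILetI false

namespace CfsgLib.ThreeAmalgam.Setup

universe u

variable {G : Type u} [Group G] [Finite G]

/-- A subgroup of order `432` with a self-centralizing translation group of order nine. -/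
structure Side (G : Type u) [Group G] where
  K : Subgroup G
  Q : Subgroup G
  le : Q ≤ K
  normal : ∀ k ∈ K, ∀ q ∈ Q, k * q * k⁻¹ ∈ Q
  cardQ : Nat.card Q = 9
  cube : ∀ q ∈ Q, q ^ 3 = 1
  comm : ∀ q ∈ Q, ∀ r ∈ Q, Commute q r
  self : ∀ k ∈ K, (∀ q ∈ Q, Commute k q) → k ∈ Q
  cardK : Nat.card K = 432

theorem card_GL_three : Nat.card (GL (Fin 2) (ZMod 3)) = 48 := by
  rw [Matrix.card_GL_field]
  simp [Fin.prod_univ_two]

/-- The side given by the hypotheses on the normal subgroup. -/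
theorem exists_side (A : Subgroup G) (eA : A ⧸ Cfsg.pCore 3 A ≃* GL (Fin 2) (ZMod 3))
    (hOA : IsMulCommutative (Cfsg.pCore 3 A) ∧ (∀ x ∈ Cfsg.pCore 3 A, x ^ 3 = 1) ∧
      Nat.card (Cfsg.pCore 3 A) = 9 ∧
      Subgroup.centralizer ((Cfsg.pCore 3 A : Subgroup A) : Set A) = Cfsg.pCore 3 A) :
    ∃ D : Side G, D.K = A ∧ D.Q = (Cfsg.pCore 3 A).map A.subtype := by
  obtain ⟨hcomm, hcube, hcard, hself⟩ := hOA
  haveI := hcomm
  haveI : (Cfsg.pCore 3 A).Normal := inferInstance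
  refine ⟨{ K := A, Q := (Cfsg.pCore 3 A).map A.subtype, le := Subgroup.map_subtype_le _,
            normal := ?_, cardQ := ?_, cube := ?_, comm := ?_, self := ?_, cardK := ?_ }, rfl, rfl⟩
  · rintro k hk _ ⟨q, hq, rfl⟩
    exact ⟨⟨k, hk⟩ * q * ⟨k, hk⟩⁻¹, Subgroup.Normal.conj_mem inferInstance q hq _, rfl⟩
  · rw [Subgroup.card_map_of_injective (Subgroup.subtype_injective _), hcard]
  · rintro _ ⟨q, hq, rfl⟩
    rw [← map_pow, hcube q hq, map_one]
  · rintro _ ⟨q, hq, rfl⟩ _ ⟨r, hr, rfl⟩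
    have h := congrArg Subtype.val
      (mul_comm' (⟨q, hq⟩ : Cfsg.pCore 3 A) ⟨r, hr⟩)
    exact (Commute.map (show Commute q r from h) A.subtype)
  · intro k hk h
    refine ⟨⟨k, hk⟩, ?_, rfl⟩
    rw [← hself]
    exact Subgroup.mem_centralizer_iff.mpr fun q hq =>
      Subtype.ext (h (q : G) ⟨q, hq, rfl⟩).symm.eq
  · rw [Subgroup.card_eq_card_quotient_mul_card_subgroup (Cfsg.pCore 3 A),
      Nat.card_congr eA.toEquiv, card_GL_three, hcard]

namespace Side

variable (D : Side G)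

theorem exists_basis : ∃ e ∈ D.Q, ∃ f ∈ D.Q, e ≠ 1 ∧ f ∉ Subgroup.zpowers e := by
  classical
  haveI : Nontrivial D.Q := Finite.one_lt_card_iff_nontrivial.mp (by rw [D.cardQ]; norm_num)
  obtain ⟨⟨e, he⟩, hne⟩ := exists_ne (1 : D.Q)
  refine ⟨e, he, ?_⟩
  by_contra hno
  push Not at hno
  have h1 : D.Q ≤ Subgroup.zpowers e :=
    fun f hf => hno f hf fun h => hne (Subtype.ext h)
  have h2 := Subgroup.card_le_of_le h1
  rw [D.cardQ, Nat.card_zpowers] at h2
  have h3 := orderOf_le_of_pow_eq_one (by norm_num : 0 < 3) (D.cube e he)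
  omega

theorem pi_mem {e f : G} (he : e ∈ D.Q) (hf : f ∈ D.Q) (v : Vec) : pi e f v ∈ D.Q :=
  mul_mem (pow_mem he _) (pow_mem hf _)

theorem basis {e f : G} (he : e ∈ D.Q) (hf : f ∈ D.Q) (hne : e ≠ 1)
    (hfn : f ∉ Subgroup.zpowers e) :
    (∀ v, pi e f v = 1 → v = 0) ∧ ∀ q ∈ D.Q, ∃ v, q = pi e f v := by
  have he3 := D.cube e he
  have hf3 := D.cube f hf
  have hinj : ∀ v, pi e f v = 1 → v = 0 := by
    rintro ⟨i, j⟩ h
    have hj : j = 0 := by
      by_contra hj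
      refine hfn ?_
      have h2 : f ^ j.val ∈ Subgroup.zpowers e := by
        rw [show f ^ j.val = (e ^ i.val)⁻¹ from eq_inv_of_mul_eq_one_right h]
        exact inv_mem (pow_mem (Subgroup.mem_zpowers e) _)
      have h3 := pow_mem h2 j.val
      rw [← pow_mul, pow_eq_pow_mod _ hf3] at h3
      have key : ∀ j : ZMod 3, j ≠ 0 → j.val * j.val % 3 = 1 := by decide
      rwa [key j hj, pow_one] at h3
    subst hj
    simp only [pi, ZMod.val_zero, pow_zero, mul_one] at h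
    have ho : orderOf e = 3 :=
      haveI : Fact (Nat.Prime 3) := ⟨Nat.prime_three⟩
      orderOf_eq_prime he3 hne
    have h4 := orderOf_dvd_of_pow_eq_one h
    rw [ho] at h4
    have h5 := ZMod.val_lt i
    have : i.val = 0 := Nat.eq_zero_of_dvd_of_lt h4 h5
    simp [(ZMod.val_eq_zero i).mp this]
  refine ⟨hinj, fun q hq => ?_⟩
  have hadd := pi_add he3 hf3 (D.comm e he f hf)
  let φ : Vec → D.Q := fun v => ⟨pi e f v, D.pi_mem he hf v⟩
  have hφ : Function.Injective φ := fun v w h => by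
    have h' : pi e f v = pi e f w := congrArg Subtype.val h
    have : pi e f (v + -w) = 1 := by
      rw [hadd, h', ← hadd, add_neg_cancel, pi_zero]
    exact add_neg_eq_zero.mp (hinj _ this)
  have hbij := (Nat.bijective_iff_injective_and_card φ).2 ⟨hφ, by
    rw [D.cardQ, Nat.card_eq_fintype_card]; rfl⟩
  obtain ⟨v, hv⟩ := hbij.2 ⟨q, hq⟩
  exact ⟨v, (congrArg Subtype.val hv).symm⟩

theorem commute_of_basis {e f : G} (he : e ∈ D.Q) (hf : f ∈ D.Q) (hne : e ≠ 1)
    (hfn : f ∉ Subgroup.zpowers e) {k : G} (hk : k ∈ D.K) (h1 : Commute k e) (h2 : Commute k f) :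
    k ∈ D.Q :=
  D.self k hk fun q hq => by
    obtain ⟨v, rfl⟩ := (D.basis he hf hne hfn).2 q hq
    exact (h1.pow_right _).mul_right (h2.pow_right _)

/-- Every automorphism of the translation group is induced. -/
theorem realise {e f : G} (he : e ∈ D.Q) (hf : f ∈ D.Q) (hne : e ≠ 1)
    (hfn : f ∉ Subgroup.zpowers e) (p q : Vec) (hdet : p.1 * q.2 - p.2 * q.1 ≠ 0) :
    ∃ g ∈ D.K, g * e * g⁻¹ = pi e f p ∧ g * f * g⁻¹ = pi e f q := by
  classical
  obtain ⟨hinj, hspan⟩ := D.basis he hf hne hfn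
  haveI := Fintype.ofFinite D.K
  choose P hP using fun g : D.K => hspan _ (D.normal g g.2 e he)
  choose R hR using fun g : D.K => hspan _ (D.normal g g.2 f hf)
  set T : Finset (Vec × Vec) :=
    Finset.univ.filter (fun w => w.1.1 * w.2.2 - w.1.2 * w.2.1 ≠ 0) with hT
  have hTcard : T.card = 48 := by rw [hT]; decide +kernel
  let ψ : D.K → Vec × Vec := fun g => (P g, R g)
  have hmem : ∀ g, ψ g ∈ T := fun g => by
    simp only [hT, Finset.mem_filter, Finset.mem_univ, true_and, ψ]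
    intro hd
    have key : ∀ a b : Vec, a.1 * b.2 - a.2 * b.1 = 0 → ∃ w, w ≠ 0 ∧ lin a b w = 0 := by
      decide +kernel
    obtain ⟨w, hw0, hw⟩ := key _ _ hd
    refine hw0 (hinj w ?_)
    have h1 := conj_pi (D.cube e he) (D.cube f hf) (D.comm e he f hf) (hP g) (hR g) w
    rw [hw, pi_zero, mul_inv_eq_one] at h1
    exact mul_eq_left.mp h1
  have hfib : ∀ w ∈ Finset.univ.image ψ, (Finset.univ.filter fun g => ψ g = w).card ≤ 9 := by
    intro w hw
    obtain ⟨g₀, -, rfl⟩ := Finset.mem_image.mp hw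
    rw [← Fintype.card_subtype, ← Nat.card_eq_fintype_card, ← D.cardQ]
    refine Nat.card_le_card_of_injective
      (fun g => ⟨(g₀ : G)⁻¹ * (g.1 : G), D.commute_of_basis he hf hne hfn
        (mul_mem (inv_mem g₀.2) g.1.2) ?_ ?_⟩) fun g g' h => ?_
    · have h1 : P g.1 = P g₀ := congrArg Prod.fst g.2
      have h2 := hP g.1
      rw [h1, ← hP g₀] at h2
      show (g₀ : G)⁻¹ * (g.1 : G) * e = e * ((g₀ : G)⁻¹ * (g.1 : G))
      rw [mul_inv_eq_iff_eq_mul] at h2
      rw [mul_assoc, h2]; group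
    · have h1 : R g.1 = R g₀ := congrArg Prod.snd g.2
      have h2 := hR g.1
      rw [h1, ← hR g₀] at h2
      show (g₀ : G)⁻¹ * (g.1 : G) * f = f * ((g₀ : G)⁻¹ * (g.1 : G))
      rw [mul_inv_eq_iff_eq_mul] at h2
      rw [mul_assoc, h2]; group
    · exact Subtype.ext (Subtype.ext (mul_left_cancel (congrArg Subtype.val h :)))
  have h1 := Finset.card_le_mul_card_image (f := ψ) Finset.univ 9 hfib
  rw [Finset.card_univ, ← Nat.card_eq_fintype_card, D.cardK] at h1
  have hsub : Finset.univ.image ψ ⊆ T := fun w hw => by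
    obtain ⟨g, -, rfl⟩ := Finset.mem_image.mp hw
    exact hmem g
  have heq := Finset.eq_of_subset_of_card_le hsub (by omega)
  have hpq : (p, q) ∈ Finset.univ.image ψ := by
    rw [heq]; simpa [hT] using hdet
  obtain ⟨g, -, hg⟩ := Finset.mem_image.mp hpq
  have hgp : P g = p := congrArg Prod.fst hg
  have hgq : R g = q := congrArg Prod.snd hg
  exact ⟨g, g.2, by rw [hP, hgp], by rw [hR, hgq]⟩

/-- An involution inverting the translation group. -/
def IsInverter (a : G) : Prop :=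
  a ∈ D.K ∧ a * a = 1 ∧ ∀ q ∈ D.Q, a * q * a⁻¹ = q⁻¹

theorem eq_one_of_inv_eq {q : G} (hq : q ∈ D.Q) (h : q = q⁻¹) : q = 1 := by
  have h3 := D.cube q hq
  rw [pow_succ, pow_two, ← inv_eq_iff_mul_eq_one.mp h.symm] at h3
  simpa using h3

theorem exists_inverter : ∃ a, D.IsInverter a := by
  obtain ⟨e, he, f, hf, hne, hfn⟩ := D.exists_basis
  obtain ⟨g, hg, h1, h2⟩ := D.realise he hf hne hfn (2, 0) (0, 2) (by decide)
  obtain ⟨hinj, hspan⟩ := D.basis he hf hne hfn
  have hinv : ∀ q ∈ D.Q, g * q * g⁻¹ = q⁻¹ := fun q hq => by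
    obtain ⟨v, rfl⟩ := hspan q hq
    rw [conj_pi (D.cube e he) (D.cube f hf) (D.comm e he f hf) h1 h2]
    refine eq_inv_of_mul_eq_one_left ?_
    have key : ∀ v : Vec, lin (2, 0) (0, 2) v + v = 0 := by decide
    rw [← pi_add (D.cube e he) (D.cube f hf) (D.comm e he f hf), key, pi_zero]
  have hgg : ∀ q ∈ D.Q, Commute (g * g) q := fun q hq => by
    refine mul_inv_eq_iff_eq_mul.mp ?_
    rw [show g * g * q * (g * g)⁻¹ = g * (g * q * g⁻¹) * g⁻¹ by group, hinv q hq,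
      hinv _ (inv_mem hq), inv_inv]
  have h6 : g ^ 6 = 1 := by
    rw [show 6 = 2 * 3 from rfl, pow_mul, pow_two]
    exact D.cube _ (D.self _ (mul_mem hg hg) hgg)
  refine ⟨g ^ 9, pow_mem hg _, ?_, fun q hq => ?_⟩
  · rw [← pow_add, show 9 + 9 = 6 * 3 from rfl, pow_mul, h6, one_pow]
  · have hc : Commute (g ^ 8) q := by
      rw [show 8 = 2 * 4 from rfl, pow_mul, pow_two]
      exact (hgg q hq).pow_left 4
    rw [show g ^ 9 = g * g ^ 8 from pow_succ' g 8,
      show g * g ^ 8 * q * (g * g ^ 8)⁻¹ = g * (g ^ 8 * q * (g ^ 8)⁻¹) * g⁻¹ by group,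
      hc.eq, mul_inv_cancel_right, hinv q hq]

variable {D}

theorem IsInverter.eq_one {a q : G} (ha : D.IsInverter a) (hq : q ∈ D.Q) (h : Commute a q) :
    q = 1 := by
  refine D.eq_one_of_inv_eq hq ?_
  rw [← ha.2.2 q hq, h.eq, mul_inv_cancel_right]

/-- An inverting involution is the only one commuting with it. -/
theorem IsInverter.unique {a b : G} (ha : D.IsInverter a) (hb : D.IsInverter b) (hc : Commute a b) :
    a = b := by
  have hinv : b⁻¹ = b := inv_eq_of_mul_eq_one_left hb.2.1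
  have hmem : a * b ∈ D.Q := D.self _ (mul_mem ha.1 hb.1) fun q hq => by
    refine mul_inv_eq_iff_eq_mul.mp ?_
    rw [show a * b * q * (a * b)⁻¹ = a * (b * q * b⁻¹) * a⁻¹ by group, hb.2.2 q hq,
      ha.2.2 _ (inv_mem hq), inv_inv]
  have h1 := ha.eq_one hmem ((Commute.refl a).mul_right hc)
  rw [← hinv]
  exact eq_inv_of_mul_eq_one_left h1

/-- Adjust an element to centralize an inverting involution. -/
theorem IsInverter.adjust {a g : G} (ha : D.IsInverter a) (hg : g ∈ D.K) :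
    ∃ g' ∈ D.K, (∀ q ∈ D.Q, g' * q * g'⁻¹ = g * q * g⁻¹) ∧ g' * a * g'⁻¹ = a := by
  have hainv : a⁻¹ = a := inv_eq_of_mul_eq_one_left ha.2.1
  set r := g * a * g⁻¹ * a⁻¹ with hr
  have hr' : r ∈ D.Q := D.self _
    (mul_mem (mul_mem (mul_mem hg ha.1) (inv_mem hg)) (inv_mem ha.1)) fun q hq => by
    refine mul_inv_eq_iff_eq_mul.mp ?_
    have h1 := ha.2.2 q hq
    have h2 : g⁻¹ * q⁻¹ * g ∈ D.Q := by simpa using D.normal g⁻¹ (inv_mem hg) _ (inv_mem hq)
    have h3 := ha.2.2 _ h2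
    rw [hr, show g * a * g⁻¹ * a⁻¹ * q * (g * a * g⁻¹ * a⁻¹)⁻¹ =
        g * a * g⁻¹ * (a⁻¹ * q * a⁻¹⁻¹) * g * a⁻¹ * g⁻¹ by group, hainv, ha.2.2 q hq,
      show g * a * g⁻¹ * q⁻¹ * g * a * g⁻¹ = g * (a * (g⁻¹ * q⁻¹ * g) * a) * g⁻¹ by group]
    conv_lhs => arg 1; arg 2; arg 2; rw [← hainv]
    rw [h3]
    group
  refine ⟨r * g, mul_mem (D.le hr') hg, fun q hq => ?_, ?_⟩
  · rw [show r * g * q * (r * g)⁻¹ = r * (g * q * g⁻¹) * r⁻¹ by group]
    rw [(D.comm r hr' _ (D.normal g hg q hq)).eq, mul_inv_cancel_right]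
  · have h1 : g * a * g⁻¹ = r * a := by rw [hr]; group
    have h2 : a * r⁻¹ * a⁻¹ = r := by rw [ha.2.2 _ (inv_mem hr'), inv_inv]
    rw [show r * g * a * (r * g)⁻¹ = r * (g * a * g⁻¹) * r⁻¹ by group, h1,
      show r * (r * a) * r⁻¹ = r * r * (a * r⁻¹ * a⁻¹) * a by group, h2,
      show r * r * r = r ^ 3 by simp [pow_succ], D.cube r hr', one_mul]

/-- The fixed translations of the inverting involution of the other side. -/
theorem exists_fixed {D' : Side G} {a b : G} (ha : D.IsInverter a) (hb : D'.IsInverter b)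
    (hbK : b ∈ D.K) (hab : Commute a b) (hQ : D.Q ≤ D'.K) (hQ' : D'.Q ≤ D.K)
    (hne : ¬ D'.Q ≤ D.Q) : ∃ f ∈ D.Q, f ∉ D'.Q ∧ b * f * b⁻¹ = f := by
  by_cases hall : ∀ q ∈ D.Q, b * q * b⁻¹ = q⁻¹
  · exfalso
    obtain rfl : a = b := ha.unique ⟨hbK, hb.2.1, hall⟩ hab
    refine hne fun w hw => D.self w (hQ' hw) fun f hf => ?_
    set c := f * w * f⁻¹ * w⁻¹ with hc
    have hc' : c ∈ D'.Q := mul_mem (D'.normal f (hQ hf) w hw) (inv_mem hw)
    have hcD : c ∈ D.Q := by
      rw [hc, show f * w * f⁻¹ * w⁻¹ = f * (w * f⁻¹ * w⁻¹) by group]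
      exact mul_mem hf (D.normal w (hQ' hw) _ (inv_mem hf))
    have h1 := ha.2.2 c hcD
    have h2 : a * c * a⁻¹ = c := by
      have e1 : a * c * a⁻¹ = (a * f * a⁻¹) * (a * w * a⁻¹) * (a * f * a⁻¹)⁻¹ * (a * w * a⁻¹)⁻¹ := by
        rw [hc]; group
      rw [e1, ha.2.2 f hf, hb.2.2 w hw]
      have e2 : Commute c (w * f) :=
        (D'.comm c hc' w hw).mul_right (D.comm c hcD f hf)
      calc f⁻¹ * w⁻¹ * f⁻¹⁻¹ * w⁻¹⁻¹ = (w * f)⁻¹ * c * (w * f) := by rw [hc]; group
        _ = c := by rw [mul_assoc, e2.eq, inv_mul_cancel_left]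
    have h4 : c = 1 := D.eq_one_of_inv_eq hcD (h2.symm.trans h1)
    rw [hc, mul_inv_eq_one, mul_inv_eq_iff_eq_mul] at h4
    exact h4.symm
  · push Not at hall
    obtain ⟨q, hq, hqb⟩ := hall
    have hbq := D.normal b hbK q hq
    have hfix : b * (q * (b * q * b⁻¹)) * b⁻¹ = q * (b * q * b⁻¹) := by
      have e : b * (q * (b * q * b⁻¹)) * b⁻¹ = (b * q * b⁻¹) * ((b * b) * q * (b * b)⁻¹) := by
        group
      rw [e, hb.2.1, one_mul, inv_one, mul_one, (D.comm _ hbq q hq).eq]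
    refine ⟨q * (b * q * b⁻¹), mul_mem hq hbq, fun hQ'' => hqb ?_, hfix⟩
    have h1 := hb.2.2 _ hQ''
    rw [hfix] at h1
    have h2 := D.eq_one_of_inv_eq (mul_mem hq hbq) h1
    exact eq_inv_of_mul_eq_one_right h2

end Side

/-- A normal `3`-subgroup lies in the image of a Sylow subgroup of a subgroup of index prime to `3`. -/
theorem pCore_le_of_index {A H : Subgroup G} (hle : H ≤ A)
    (hidx : ¬ 3 ∣ (H.subgroupOf A).index) (S : Sylow 3 H) :
    (Cfsg.pCore 3 A).map A.subtype ≤ (S : Subgroup H).map H.subtype := by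
  haveI : Fact (Nat.Prime 3) := ⟨Nat.prime_three⟩
  set P := (S : Subgroup H).map H.subtype with hP
  have hPH : P ≤ H := Subgroup.map_subtype_le _
  have hpg : IsPGroup 3 P := S.isPGroup'.map H.subtype
  have hpg' : IsPGroup 3 (P.subgroupOf A) :=
    hpg.of_injective (Subgroup.subgroupOfEquivOfLe (hPH.trans hle)).toMonoidHom
      (MulEquiv.injective _)
  have hidx' : ¬ 3 ∣ (P.subgroupOf A).index := by
    intro h
    change 3 ∣ P.relIndex A at h
    rw [← Subgroup.relIndex_mul_relIndex P H A hPH hle] at h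
    rcases (Nat.Prime.dvd_mul Nat.prime_three).mp h with h | h
    · have e : P.subgroupOf H = (S : Subgroup H) :=
        Subgroup.comap_map_eq_self_of_injective (Subgroup.subtype_injective _) _
      rw [Subgroup.relIndex, e] at h
      exact S.not_dvd_index h
    · exact hidx h
  have h1 := CfsgLib.Base.pCore_le_sylow (hpg'.toSylow hidx')
  rintro _ ⟨x, hx, rfl⟩
  exact h1 hx

end CfsgLib.ThreeAmalgam.Setup
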