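import Cfsg.Agent.Lib.ThreeAmalgam.Interface
import Cfsg.Agent.Lib.Small.L33.Main
import Cfsg.Agent.Lib.Classical.SLGen
import Cfsg.Agent.Lib.Classical.PSLSimple

/-!
# The seven letters in `PSL(3, 3)`
-/

set_option autoImplicit false
set_option maxRecDepth 10000

namespace CfsgLib.ThreeAmalgam.Thirteen

open Matrix

/-- The letters in `SL(3, 3)`. -/
def mats : Fin 7 → Matrix.SpecialLinearGroup (Fin 3) (ZMod 3)
  | 0 => ⟨!![2, 0, 0; 0, 2, 0; 0, 0, 1], by decide +kernel⟩
  | 1 => ⟨!![1, 0, 0; 0, 2, 0; 0, 0, 2], by decide +kernel⟩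
  | 2 => ⟨!![2, 0, 2; 0, 2, 0; 0, 0, 1], by decide +kernel⟩
  | 3 => ⟨!![2, 0, 0; 0, 2, 2; 0, 0, 1], by decide +kernel⟩
  | 4 => ⟨!![1, 1, 0; 0, 2, 0; 0, 0, 2], by decide +kernel⟩
  | 5 => ⟨!![0, 1, 0; 1, 0, 0; 0, 0, 2], by decide +kernel⟩
  | 6 => ⟨!![2, 0, 0; 0, 0, 1; 0, 1, 0], by decide +kernel⟩

/-- Words for the elementary transvections with entry one. -/
def rootWord : Fin 3 → Fin 3 → List (Fin 7)
  | 0, 1 => [1, 4]
  | 0, 2 => [0, 2]
  | 1, 0 => [1, 4, 5, 4]
  | 1, 2 => [0, 3]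
  | 2, 0 => [0, 2, 5, 6, 5, 2]
  | 2, 1 => [6, 0, 3, 6]
  | _, _ => []

theorem rels : ∀ w ∈ keyThirteen :: base, (val mats w).1 = 1 := by decide +kernel

theorem roots : ∀ i j : Fin 3, i ≠ j → ∀ c : ZMod 3,
    (val mats (List.replicate c.val (rootWord i j)).flatten).1 =
      1 + Matrix.single i j c := by decide +kernel

theorem closure_mats : Subgroup.closure (Set.range mats) = ⊤ := by
  refine Classical.eq_top_of_transvection_mem _ fun i j hij c => ?_
  have h : val mats (List.replicate c.val (rootWord i j)).flatten =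
      Matrix.SpecialLinearGroup.transvection hij c :=
    Subtype.ext ((roots i j hij c).trans (Matrix.SpecialLinearGroup.transvection_coe hij c).symm)
  rw [← h]
  refine list_prod_mem fun x hx => ?_
  obtain ⟨k, -, rfl⟩ := List.mem_map.1 hx
  exact Subgroup.subset_closure ⟨k, rfl⟩

end Thirteen

/-- The letters in `PSL(3, 3)`. -/
theorem thirteen : StmtThirteen := by
  set φ : Matrix.SpecialLinearGroup (Fin 3) (ZMod 3) →*
      Matrix.ProjectiveSpecialLinearGroup (Fin 3) (ZMod 3) :=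
    QuotientGroup.mk' (Subgroup.center (Matrix.SpecialLinearGroup (Fin 3) (ZMod 3))) with hφ
  have hval : ∀ w : List (Fin 7), val (φ ∘ Thirteen.mats) w = φ (val Thirteen.mats w) := fun w => by
    simp [val, map_list_prod, List.map_map]
  have hrel : ∀ w ∈ keyThirteen :: base, val (φ ∘ Thirteen.mats) w = 1 := fun w hw => by
    rw [hval, show val Thirteen.mats w = 1 from Subtype.ext (Thirteen.rels w hw), map_one]
  refine ⟨φ ∘ Thirteen.mats, fun w hw => hrel w (List.mem_cons_of_mem _ hw),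
    hrel _ List.mem_cons_self, ?_, ?_, ?_⟩
  · rw [Set.range_comp, ← MonoidHom.map_closure, Thirteen.closure_mats,
      Subgroup.map_top_of_surjective _ (QuotientGroup.mk'_surjective _)]
  · obtain ⟨e⟩ := Small.L33.nonempty_PSL
    rw [← Nat.card_congr e.toEquiv, Small.L33.card_SL33]
  · exact Classical.isSimpleGroup_PSL_fin 3 (by omega) (fun h => by omega)

end CfsgLib.ThreeAmalgam
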