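import Cfsg.Agent.Lib.ThreeAmalgam.Interface
import Cfsg.Agent.Lib.KnownA.MathieuOut.M12
import Cfsg.Agent.Lib.M12Cent.Target

/-!
# The seven letters in `M₁₂`
-/

set_option autoImplicit false
set_option maxRecDepth 100000

namespace CfsgLib.ThreeAmalgam.Twelve

open Cfsg CfsgLib.Spor CfsgLib.MathieuOut CfsgLib.Involutions.MathieuSylow

/-- The letters as packed permutations. -/
def letCode : Fin 7 → ℕ
  | 0 => 444819351316424441011164844367399328
  | 1 => 233233386906768391987032901617288256
  | 2 => 610961446608002731848341773020039424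
  | 3 => 652507427890340834643637769448032300
  | 4 => 984737182502729783464923423941280160
  | 5 => 440925247547628127307617614868531235
  | 6 => 970499966350631336865513127433832480

/-- The value of a word on packed permutations. -/
def valCode (w : List (Fin 7)) : ℕ := w.foldr (fun k a => compP (letCode k) a) idP

theorem letters_ok : ∀ k, elemB dodMasks [] (letCode k) = true := by decide +kernel

theorem rels_ok : ((keyTwelve :: base).all fun w => Nat.beq (valCode w) idP) = true := by
  decide +kernel

theorem gens_ok :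
    valCode [5, 4, 3, 6, 2, 5, 6, 5, 4, 3, 6] = M12Cert.genA ∧
    valCode [4, 6, 5, 4, 6, 5, 2, 6, 3, 0] = M12Cert.genB ∧
    valCode [2, 4, 5, 6, 5, 3, 6, 2, 5, 6, 4] = M12Cert.genC := by
  decide +kernel

theorem levels_ok :
    checkSLP M12Cert.rows [M12Cert.genA, M12Cert.genB, M12Cert.genC] = true ∧
    levelsLow [] M12Cert.lev = true ∧
    (M12Cert.lev.all fun l => l.2.all fun t =>
      Nat.beq t idP || [M12Cert.genA, M12Cert.genB, M12Cert.genC].any (Nat.beq t) ||
        M12Cert.rows.any fun e => Nat.beq t e.1) = true ∧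
    95040 ≤ (M12Cert.lev.map fun l => l.2.length).prod := by
  decide +kernel

theorem exists_letters : ∃ L : Fin 7 → stabG dodMasks [],
    (∀ w ∈ base, val L w = 1) ∧ val L keyTwelve = 1 ∧ Subgroup.closure (Set.range L) = ⊤ := by
  choose L hL using fun k => exists_code (masks := dodMasks) (prev := [])
    (fun _ h => absurd h (by simp)) (letters_ok k)
  have hval : ∀ w : List (Fin 7), code (val L w) = valCode w := by
    intro w
    induction w with
    | nil => exact code_one
    | cons k w ih =>
      rw [show val L (k :: w) = L k * val L w from rfl, code_mul, hL, ih]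
      rfl
  have hrel : ∀ w ∈ keyTwelve :: base, val L w = 1 := fun w hw =>
    code_injective (by
      rw [hval, code_one]
      exact Nat.eq_of_beq_eq_true (List.all_eq_true.1 rels_ok w hw))
  refine ⟨L, fun w hw => hrel w (List.mem_cons_of_mem _ hw), hrel _ List.mem_cons_self, ?_⟩
  refine Subgroup.map_injective (f := (stabG dodMasks []).subtype) Subtype.val_injective ?_
  rw [← MonoidHom.range_eq_map, Subgroup.range_subtype]
  refine eq_of_levels (Subgroup.map_subtype_le _) ?_ M12Cert.rows levels_ok.1 M12Cert.lev
    levels_ok.2.1 levels_ok.2.2.1 ?_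
  · intro a ha
    have key : ∀ w : List (Fin 7), valCode w = a →
        RepIn ((Subgroup.closure (Set.range L)).map (stabG dodMasks []).subtype) a := fun w hw =>
      ⟨(val L w).1, Subgroup.mem_map_of_mem _ (list_prod_mem fun x hx => by
        obtain ⟨k, -, rfl⟩ := List.mem_map.1 hx
        exact Subgroup.subset_closure ⟨k, rfl⟩), by
        rw [← hw, ← hval]; exact rep_canon _⟩
    simp only [List.mem_cons, List.not_mem_nil, or_false] at ha
    rcases ha with rfl | rfl | rfl
    exacts [key _ gens_ok.1, key _ gens_ok.2.1, key _ gens_ok.2.2]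
  · rw [stabG_M12, natCard_M12]
    exact levels_ok.2.2.2

end Twelve

open Cfsg CfsgLib.MathieuOut CfsgLib.Spor

/-- The letters in `M₁₂`. -/
theorem twelve : StmtTwelve := by
  obtain ⟨L, h1, h2, h3⟩ := Twelve.exists_letters
  have key : ∀ H : Subgroup (Equiv.Perm GolayPt), Spor.stabG dodMasks [] = H →
      ∃ L : Fin 7 → H, (∀ w ∈ base, val L w = 1) ∧ val L keyTwelve = 1 ∧
        Subgroup.closure (Set.range L) = ⊤ := by
    rintro H rfl
    exact ⟨L, h1, h2, h3⟩
  obtain ⟨L', h1', h2', h3'⟩ := key _ stabG_M12
  exact ⟨L', h1', h2', h3', natCard_M12, M12Cent.isSimple_M12⟩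

end CfsgLib.ThreeAmalgam
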